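import Groth.Agent.Surf.K418.FrobNeg
import Groth.Agent.Surf.K459.Arak

/-!
# Numerical positivity of the relative canonical class of a fibration over a curve (K418)

`f : X ⟶ C` a fibration of a smooth proper surface over a smooth proper curve.
* `vertical_or_surj`, `degOn_pt_neg`: horizontal curves.
* `eq_zero_of_hodge`: Hodge index: `(w·w) > 0`, `(w·c) = 0`, `(c·c) ≥ 0` imply `(c·F) = 0`.
* `not_horizontal`: if `(w·w) > 0`, an integral curve `D` with `(w·D) = 0` and `D² ≥ 0` is vertical.
* `dot_omega_pt`: `(w · -F) = 2 (1 - g)`.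
* `section_sq`: `E² = - deg_E w` for a section `E`.
-/

set_option autoImplicit false
universe u
open CategoryTheory CategoryTheory.Limits AlgebraicGeometry Opposite TopologicalSpace

namespace K418.NumPos

open Groth.Agent Groth.Agent.Grpsch.PicGrp
open K464.Base K464.Curves K464.Comp K464.DegCurve K464.PtCurve K464.FibCurve

section Hodge

variable (k : Type u) [Field k] {X : Scheme.{u}} [X.Over (Spec (CommRingCat.of k))]
  [IsProper (X ↘ Spec (CommRingCat.of k))] (hdim : topologicalKrullDim X = 2)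

include hdim in
/-- **Hodge index**: a class orthogonal to a class of positive square and of nonnegative square is numerically
trivial. -/
theorem degOn_eq_zero_of_hodge [GeometricallyIrreducible (X ↘ Spec (CommRingCat.of k))] {w c : Pic X}
    (h1 : 0 < dot k X w w) (h2 : dot k X c w = 0) (h3 : 0 ≤ dot k X c c) {E : X.IdealSheafData} (hE : IsCurve E) :
    degOn k X E c = 0 := by
  obtain ⟨H', hH', rfl⟩ := exists_mk w
  obtain ⟨L', hL', rfl⟩ := exists_mk c
  obtain ⟨H, hH, ⟨eH⟩⟩ := exists_inverse hH'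
  obtain ⟨L, hL, ⟨eL⟩⟩ := exists_inverse hL'
  have := hE.integral
  have key := S3234.result k X hdim H H' L L' hH hL ⟨Ega2.Tens.swap H H' ≪≫ eH⟩ ⟨Ega2.Tens.swap L L' ≪≫ eL⟩
    (by rw [intNum_eq_dot k X hdim.le hH' hH']; exact h1)
    (by rw [intNum_eq_dot k X hdim.le hL' hH']; exact h2)
    (by rw [intNum_eq_dot k X hdim.le hL' hL']; exact h3) E.subscheme E.subschemeι ((dim_sub X E).trans hE.dim)
  rw [K459.Arak.intNum_one k hdim] at key
  rw [degOn_mk]
  have h4 : Curv2.euler k X (ClSub.quotMod E) - Curv2.euler k X (CohB1.tensorMod (ClSub.quotMod E) L') = 0 := key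
  linarith

end Hodge

section Fib

variable (k : Type u) [Field k] [IsAlgClosed k] {X C : Scheme.{u}} [X.Over (Spec (CommRingCat.of k))]
  [C.Over (Spec (CommRingCat.of k))] [IsProper (X ↘ Spec (CommRingCat.of k))] [IsProper (C ↘ Spec (CommRingCat.of k))]
  [IsIntegral X] [IsIntegral C] [Smooth (X ↘ Spec (CommRingCat.of k))] [Smooth (C ↘ Spec (CommRingCat.of k))]
  (hdim : topologicalKrullDim X = 2) (hdimC : topologicalKrullDim C = 1) (f : X ⟶ C)
  (hf : f ≫ (C ↘ Spec (CommRingCat.of k)) = X ↘ Spec (CommRingCat.of k)) [IsDominant f]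

include hdimC hf in
omit [IsIntegral X] [Smooth (X ↘ Spec (CommRingCat.of k))] [Smooth (C ↘ Spec (CommRingCat.of k))] [IsDominant f]
  [IsAlgClosed k] in
theorem vertical_or_surj {D : X.IdealSheafData} (hD : IsCurve D) :
    (∃ c : C, IsClosed ({c} : Set C) ∧ ∀ x : X, x ∈ D.support → f x = c) ∨
      (f (gp hD) = genericPoint C ∧ ∀ c : C, ∃ x : X, x ∈ D.support ∧ f x = c) := by
  have := isProper k f hf
  have h1 : f '' (D.support : Set X) = closure {f (gp hD)} := by
    rw [← closure_gp hD, ← f.isClosedMap.closure_image_eq_of_continuous f.continuous, Set.image_singleton]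
  by_cases h : f (gp hD) = genericPoint C
  · right
    refine ⟨h, fun c => ?_⟩
    have h2 : c ∈ f '' (D.support : Set X) := by
      rw [h1, h]
      exact (genericPoint_spec C).symm ▸ Set.mem_univ c
    exact h2
  · left
    have h2 := isClosed_of_ne hdimC h
    refine ⟨_, h2, fun x hx => ?_⟩
    have h3 : f x ∈ f '' (D.support : Set X) := ⟨x, hx, rfl⟩
    rw [h1, h2.closure_eq] at h3
    exact h3

include hdimC in
omit [IsAlgClosed k] [IsIntegral X] [Smooth (X ↘ Spec (CommRingCat.of k))] [Smooth (C ↘ Spec (CommRingCat.of k))]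
  [IsDominant f] [IsProper (C ↘ Spec (CommRingCat.of k))] [C.Over (Spec (CommRingCat.of k))] in
/-- A horizontal curve meets the fibres positively. -/
theorem degOn_pt_neg {D : X.IdealSheafData} (hD : IsCurve D) (h1 : f (gp hD) = genericPoint C)
    {q : C} (hq : IsClosed ({q} : Set C)) (hE : BlowUp.IsEffCartierIdeal (pt hq))
    (h2 : ∃ x : X, x ∈ D.support ∧ f x = q) : degOn k X D (pull f (ic (pt hq) hE)) < 0 := by
  let _ := overC k X D
  have := isProper_sub k X D
  have := hD.integral
  rw [degOn_eq_degC, ← pull_comp]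
  obtain ⟨x, hx, hxq⟩ := h2
  rw [← SetLike.mem_coe, ← D.range_subschemeι] at hx
  obtain ⟨y, rfl⟩ := hx
  refine degC_pull_ic_neg k D.subscheme ((dim_sub X D).trans hD.dim) (D.subschemeι ≫ f) hE ?_ y ?_
  · rw [mem_support_pt]
    intro h3
    exact ne_generic hdimC hq (h3.symm.trans h1)
  · rw [mem_support_pt]
    exact hxq

include hdim hdimC hf in
/-- If `(w·w) > 0` then an integral curve `D` with `(w·D) = 0` and `D² ≥ 0` does not exist unless vertical. -/
theorem not_horizontal {w : Pic X} (hw : 0 < dot k X w w) {D : X.IdealSheafData} (hD : IsCurve D)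
    (hDe : BlowUp.IsEffCartierIdeal D) (h0 : degOn k X D w = 0) (h1 : 0 ≤ dot k X (ic D hDe) (ic D hDe)) :
    ∃ c : C, IsClosed ({c} : Set C) ∧ ∀ x : X, x ∈ D.support → f x = c := by
  rcases vertical_or_surj k hdimC f hf hD with h | ⟨h2, h3⟩
  · exact h
  exfalso
  have hgi : GeometricallyIrreducible (X ↘ Spec (CommRingCat.of k)) :=
    Fdesc.GeomAlgClosed.geometricallyIrreducible_of_irreducibleSpace _
  have hregC : ∀ c : C, IsRegularLocalRing (C.presheaf.stalk c) := fun c => S1535.result k C c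
  have : AlgebraicGeometry.IsNoetherian C := CurvesB.CurveRR.isNoetherian_of_proper k C
  obtain ⟨q, -, hq⟩ := (isClosed_univ (X := C)).exists_closed_singleton Set.univ_nonempty
  have hE := isEff_pt k (C ↘ Spec (CommRingCat.of k)) hdimC hregC hq
  have hFib := isEff_fibre f hdimC hq hE
  have h4 := degOn_pt_neg k hdimC f hD h2 hq hE (h3 q)
  have h5 : ∀ E : X.IdealSheafData, IsCurve E → degOn k X E (ic D hDe) = 0 := fun E hE =>
    degOn_eq_zero_of_hodge k hdim hw (by rw [dot_ic_eq, h0, neg_zero]) h1 hE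
  have h6 := degOn_nonneg_of_forall k hdim (a := ic D hDe) (fun E hE => (h5 E hE).ge) hFib
  rw [pull_ic f hE hFib, degOn_eq_neg_dot k X hDe, dot_comm] at h4
  rw [degOn_eq_neg_dot k X hFib] at h6
  linarith

variable {WX : X.Modules} (hWX : ExtPow.IsExtPow 2 (Omega.sheaf (X ↘ Spec (CommRingCat.of k))) WX)
  (hW : PicF.IsInvertible WX) {M : X.Modules} (hM : PicF.IsInvertible M)
  (hMi : ClSub.IsInverseOf M ((Scheme.Modules.pullback f).obj (Omega.sheaf (C ↘ Spec (CommRingCat.of k)))))
  (hΩ : PicF.IsInvertible (Omega.sheaf (C ↘ Spec (CommRingCat.of k))))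

include hMi in
omit [IsAlgClosed k] [IsProper (X ↘ Spec (CommRingCat.of k))] [IsProper (C ↘ Spec (CommRingCat.of k))]
  [X.Over (Spec (CommRingCat.of k))] [IsIntegral X] [IsIntegral C] [Smooth (X ↘ Spec (CommRingCat.of k))]
  [Smooth (C ↘ Spec (CommRingCat.of k))] [IsDominant f] in
theorem mk_M : mk M hM = pull f (mk _ hΩ)⁻¹ := by
  obtain ⟨eM⟩ := hMi
  rw [map_inv, eq_inv_iff_mul_eq_one, pull_mk, mk_mul_mk, mk_eq_one_iff]
  exact ⟨eM⟩

include hdim hdimC hf hWX hMi in
/-- `(w · (-F)) = 2 (1 - g)`. -/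
theorem dot_omega_pt (hΩ : PicF.IsInvertible (Omega.sheaf (C ↘ Spec (CommRingCat.of k))))
    {q : C} (hq : IsClosed ({q} : Set C)) (hE : BlowUp.IsEffCartierIdeal (pt hq)) (g : ℤ)
    (hg : Curv2.euler k X (ClSub.quotMod (f.fiberι q).ker) = 1 - g) :
    dot k X (mk WX hW * mk M hM) (pull f (ic (pt hq) hE)) = 2 * (1 - g) := by
  have hd : topologicalKrullDim X ≤ (2 : ℕ) := hdim.le
  have hregC : ∀ c : C, IsRegularLocalRing (C.presheaf.stalk c) := fun c => S1535.result k C c
  have hFib := isEff_fibre f hdimC hq hE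
  have hker : (f.fiberι q).ker = (pt hq).comap f := by
    have : IsClosedImmersion (C.fromSpecResidueField q) := isClosed_singleton_iff_isClosedImmersion.mp hq
    rw [K456.FibDiv.ker_fiberι]
    congr 1
    rw [Models.H50.PointInter.ker_eq_vanishingIdeal]
    congr 1
    apply Closeds.ext
    rw [Closeds.coe_closure, Scheme.range_fromSpecResidueField, hq.closure_eq]
    rfl
  rw [hker] at hg
  rw [dot_mul_left k X hd, mk_M k f hM hMi hΩ, dot_pull_pull k f hf hd hdimC hregC, add_zero,
    pull_ic f hE hFib, dot_comm, K459.Arak.adjunction k hdim hWX hW hFib, hg, ← pull_ic f hE hFib,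
    dot_pull_pull k f hf hd hdimC hregC]
  ring

include hdim hdimC hf hWX hMi in
/-- `E² = - deg_E w` for a section `E`. -/
theorem section_sq (hΩ : PicF.IsInvertible (Omega.sheaf (C ↘ Spec (CommRingCat.of k))))
    {E : X.IdealSheafData} (hE : IsIso (E.subschemeι ≫ f)) (hEff : BlowUp.IsEffCartierIdeal E) :
    dot k X (ic E hEff) (ic E hEff) = - degOn k X E (mk WX hW * mk M hM) := by
  have hd : topologicalKrullDim X ≤ (2 : ℕ) := hdim.le
  have a6 := K459.Arak.adjunction k hdim hWX hW hEff
  rw [K459.Arak.euler_section k f hf hE] at a6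
  have a3 : ∀ A : Pic C, dot k X (ic E hEff) (pull f A) = - degC k C A := fun A => by
    rw [dot_ic_eq, K459.Arak.degOn_section k f hf hE]
  rw [← dot_ic_eq k X hEff, dot_mul_right k X hd, a6, mk_M k f hM hMi hΩ, a3, degC_inv k C hdimC,
    K459.Arak.degC_omega k hdimC hΩ]
  ring

include hdimC in
omit [IsAlgClosed k] [IsIntegral X] [Smooth (X ↘ Spec (CommRingCat.of k))] [Smooth (C ↘ Spec (CommRingCat.of k))]
  [IsDominant f] [IsProper (C ↘ Spec (CommRingCat.of k))] [C.Over (Spec (CommRingCat.of k))]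
  [IsProper (X ↘ Spec (CommRingCat.of k))] [X.Over (Spec (CommRingCat.of k))] [Field k] in
theorem isCurve_section {E : X.IdealSheafData} (hE : IsIso (E.subschemeι ≫ f)) : IsCurve E := by
  have hneE : Nonempty E.subscheme := ⟨inv (E.subschemeι ≫ f) (Classical.arbitrary C)⟩
  have hintE : IsIntegral E.subscheme := isIntegral_of_isOpenImmersion (asIso (E.subschemeι ≫ f)).hom
  have hdimE : topologicalKrullDim E.subscheme = 1 := by
    rw [← hdimC]
    exact IsHomeomorph.topologicalKrullDim_eq _ ((E.subschemeι ≫ f).homeomorph.isHomeomorph)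
  exact ⟨hintE, (dim_sub X E).symm.trans hdimE⟩

/-- A section is not vertical. -/
theorem section_not_vertical (hdimC : topologicalKrullDim C = 1) {E : X.IdealSheafData}
    (hE : IsIso (E.subschemeι ≫ f)) : ¬ ∃ c : C, ∀ x : X, x ∈ E.support → f x = c := by
  rintro ⟨c, hc⟩
  have h1 : ∀ b : C, b = c := fun b => by
    have h2 := hc (E.subschemeι (inv (E.subschemeι ≫ f) b)) (by
      rw [← SetLike.mem_coe, ← E.range_subschemeι]
      exact Set.mem_range_self _)
    have h3 : (E.subschemeι ≫ f) (inv (E.subschemeι ≫ f) b) = b := by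
      rw [← Scheme.Hom.comp_apply, IsIso.inv_hom_id]; rfl
    exact h3.symm.trans h2
  have : Subsingleton C := ⟨fun a b => (h1 a).trans (h1 b).symm⟩
  have h2 : topologicalKrullDim C ≤ 0 := topologicalKrullDim_zero_of_discreteTopology C
  rw [hdimC] at h2
  exact absurd h2 (by decide)

end Fib

end K418.NumPos
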