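import Groth.Agent.Surf.K418.FrobMain
import Groth.Agent.Surf.K418.NumPos
import Groth.Agent.CurvesB.OmegaInv

/-!
# Assembly of the numerical positivity of `ω_{X/C}` (K418)

`concl`: the conclusion of S15105 from nefness, the inequality `D² + m (ω·D) ≥ 0` for horizontal curves, the vertical
case, the positivity of `deg f_* ω_{X/C}`.
-/

set_option autoImplicit false
universe u
open CategoryTheory CategoryTheory.Limits AlgebraicGeometry Opposite TopologicalSpace

namespace K418.Szp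

open Groth.Agent Groth.Agent.Grpsch.PicGrp
open K464.Base K464.Curves K464.Comp K464.DegCurve K464.PtCurve K464.FibCurve K418.NumPos

variable (k : Type u) [Field k] [IsAlgClosed k] (p : ℕ) [Fact p.Prime] [CharP k p]
  {X : Scheme.{u}} [X.Over (Spec (CommRingCat.of k))] [IsProper (X ↘ (Spec (CommRingCat.of k)))]
  [Smooth (X ↘ (Spec (CommRingCat.of k)))] [IsIntegral X] (hdim : topologicalKrullDim X = 2)
  {C : Scheme.{u}} [C.Over (Spec (CommRingCat.of k))] [IsProper (C ↘ (Spec (CommRingCat.of k)))]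
  [Smooth (C ↘ (Spec (CommRingCat.of k)))] [IsIntegral C] (hdimC : topologicalKrullDim C = 1)
  (f : X ⟶ C) (hf : f ≫ (C ↘ Spec (CommRingCat.of k)) = X ↘ Spec (CommRingCat.of k)) [Surjective f] [Flat f]
  [LocallyOfFinitePresentation f]
  (q₀ : C) (hq₀ : IsClosed ({q₀} : Set C)) (hsm : Smooth (f.fiberToSpecResidueField q₀))
  (g : ℕ) (hg2 : 2 ≤ g) (hg : Curv2.euler k X (ClSub.quotMod (f.fiberι q₀).ker) = 1 - (g : ℤ))
  {WX : X.Modules} (hWX : ExtPow.IsExtPow 2 (Omega.sheaf (X ↘ (Spec (CommRingCat.of k)))) WX)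
  (hW : PicF.IsInvertible WX)
  {M : X.Modules} (hM : ClSub.IsInverseOf M ((Scheme.Modules.pullback f).obj
    (Omega.sheaf (C ↘ (Spec (CommRingCat.of k))))))
  (hMi : PicF.IsInvertible M)
  (hV : FlatMod.IsFinLocFreeOfRank g ((Coh.push f).obj (CohB1.tensorMod WX M)))

include k p hdim hdimC hf hq₀ hsm hg2 hg hWX hM hV in
/-- `(ω·ω) > 0` from nefness and `deg f_* ω > 0`. -/
theorem dot_self_pos (hnef : ∀ D : X.IdealSheafData, IsCurve D → 0 ≤ degOn k X D (mk WX hW * mk M hMi))
    (hd : 0 < Curv2.euler k C ((Coh.push f).obj (CohB1.tensorMod WX M)) -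
      (g : ℤ) * Curv2.euler k C (Coh.structureModule C)) :
    0 < dot k X (mk WX hW * mk M hMi) (mk WX hW * mk M hMi) := by
  have := isProper k f hf
  have hchX : FrobSch.IsCharP X p := FrobMain.isCharP k p X
  have hchC : FrobSch.IsCharP C p := FrobMain.isCharP k p C
  have hregC : ∀ c : C, IsRegularLocalRing (C.presheaf.stalk c) := fun c => S1535.result k C c
  have hE := isEff_pt k (C ↘ Spec (CommRingCat.of k)) hdimC hregC hq₀
  have hL := Fdesc.LocGen.isInvertible_tensorMod hW hMi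
  have h1 : 0 < K707.Deg.dg k ((Scheme.Modules.pushforward f).obj (CohB1.tensorMod WX M)) := by
    rw [K707.Deg.dg_of_rank k hV]
    exact hd
  have h2 := FrobMain.dot_pos k p f q₀ hsm hdim hdimC hL hnef
    (K707.Base.isFinLocFree_of_rank hV) h1 (A := ClSub.idealMod (pt hq₀)) (Dix.IdealModCartier.isInvertible_idealMod hE) (by
      have := dot_omega_pt k hdim hdimC f hf hWX hW hMi hM (CurvesB.OmegaInv.isInvertible_omega _ hdimC) hq₀ hE g hg
      have h3 : mk (ClSub.idealMod (pt hq₀)) (Dix.IdealModCartier.isInvertible_idealMod hE) = ic (pt hq₀) hE := rfl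
      rw [h3, this]
      have : (2 : ℤ) ≤ g := by exact_mod_cast hg2
      linarith)
  exact h2

include k p hdim hdimC hf hq₀ hsm hg2 hg hWX hM hV in
/-- **The conclusion of S15105** from its ingredients. -/
theorem concl (hnef : ∀ D : X.IdealSheafData, IsCurve D → 0 ≤ degOn k X D (mk WX hW * mk M hMi))
    (hstar : ∀ (D : X.IdealSheafData) (hD : IsCurve D) (hDe : BlowUp.IsEffCartierIdeal D),
      f (gp hD) = genericPoint C →
        ∃ m : ℤ, 0 ≤ dot k X (ic D hDe) (ic D hDe) + m * degOn k X D (mk WX hW * mk M hMi))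
    (hvert : ∀ D : X.IdealSheafData, IsIntegral D.subscheme → topologicalKrullDim (D.support : Set X) = 1 →
      (∃ c : C, ∀ x : X, x ∈ D.support → f.base x = c) → ∀ LD : X.Modules, ClSub.IsInverseOf LD (ClSub.idealMod D) →
      0 ≤ FGA.intNum k X 2 ![(CohB1.tensorMod WX M), LD] (Coh.structureModule X) ∧
      (FGA.intNum k X 2 ![(CohB1.tensorMod WX M), LD] (Coh.structureModule X) = 0 →
        Curv2.euler k X (ClSub.quotMod D) = 1 ∧ FGA.intNum k X 2 ![LD, LD] (Coh.structureModule X) = -2))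
    (hd : 0 < Curv2.euler k C ((Coh.push f).obj (CohB1.tensorMod WX M)) -
      (g : ℤ) * Curv2.euler k C (Coh.structureModule C)) :
    0 < FGA.intNum k X 2 ![(CohB1.tensorMod WX M), (CohB1.tensorMod WX M)] (Coh.structureModule X) ∧
    (∀ D : X.IdealSheafData, IsIntegral D.subscheme → topologicalKrullDim (D.support : Set X) = 1 →
      0 ≤ Curv2.euler k X (CohB1.tensorMod (ClSub.quotMod D) (CohB1.tensorMod WX M)) - Curv2.euler k X (ClSub.quotMod D)) ∧
    (∀ D : X.IdealSheafData, IsIntegral D.subscheme → topologicalKrullDim (D.support : Set X) = 1 →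
      Curv2.euler k X (CohB1.tensorMod (ClSub.quotMod D) (CohB1.tensorMod WX M)) - Curv2.euler k X (ClSub.quotMod D) = 0 →
        (∃ c : C, ∀ x : X, x ∈ D.support → f.base x = c) ∧ Curv2.euler k X (ClSub.quotMod D) = 1 ∧
          FGA.intNum k X 2 ![ClSub.idealMod D, ClSub.idealMod D] (Coh.structureModule X) = -2) := by
  have hd2 : topologicalKrullDim X ≤ (2 : ℕ) := hdim.le
  have hL := Fdesc.LocGen.isInvertible_tensorMod hW hMi
  have hLmk : mk (CohB1.tensorMod WX M) hL = mk WX hW * mk M hMi := (mk_mul_mk hW hMi).symm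
  have hpos := dot_self_pos k p hdim hdimC f hf q₀ hq₀ hsm g hg2 hg hWX hW hM hMi hV hnef hd
  have hdeg : ∀ D : X.IdealSheafData, Curv2.euler k X (CohB1.tensorMod (ClSub.quotMod D) (CohB1.tensorMod WX M)) -
      Curv2.euler k X (ClSub.quotMod D) = degOn k X D (mk WX hW * mk M hMi) := fun D => by
    rw [← hLmk, degOn_mk]
  refine ⟨?_, fun D h1 h2 => ?_, fun D h1 h2 h3 => ?_⟩
  · rw [intNum_eq_dot k X hd2 hL hL, hLmk]
    exact hpos
  · rw [hdeg]
    exact hnef D ⟨h1, h2⟩
  · rw [hdeg] at h3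
    have hD : IsCurve D := ⟨h1, h2⟩
    have hDe := isEff_of_smooth k hdim hD
    have hvD : ∃ c : C, IsClosed ({c} : Set C) ∧ ∀ x : X, x ∈ D.support → f x = c := by
      rcases vertical_or_surj k hdimC f hf hD with h | ⟨h4, h5⟩
      · exact h
      · obtain ⟨m, hm⟩ := hstar D hD hDe h4
        rw [h3, mul_zero, add_zero] at hm
        exact not_horizontal k hdim hdimC f hf hpos hD hDe h3 hm
    obtain ⟨c, hc, hcv⟩ := hvD
    obtain ⟨N, hN, ⟨e⟩⟩ := Grpsch.PicGrp.exists_inverse (Dix.IdealModCartier.isInvertible_idealMod hDe)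
    have hinv : ClSub.IsInverseOf N (ClSub.idealMod D) := ⟨Ega2.Tens.swap _ _ ≪≫ e⟩
    have hNic : mk N hN = (ic D hDe)⁻¹ := mk_eq_ic_inv hinv hN hDe
    have key := (hvert D h1 h2 ⟨c, hcv⟩ N hinv).2 (by
      rw [intNum_eq_dot k X hd2 hL hN, hLmk, hNic, dot_inv_right k X hd2, dot_comm, dot_ic_eq, h3]
      simp)
    refine ⟨⟨c, hcv⟩, key.1, ?_⟩
    have h6 := key.2
    rw [intNum_eq_dot k X hd2 hN hN, hNic, dot_inv_inv k X hd2] at h6
    rw [intNum_eq_dot k X hd2 (Dix.IdealModCartier.isInvertible_idealMod hDe) (Dix.IdealModCartier.isInvertible_idealMod hDe)]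
    exact h6

end K418.Szp
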