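import Groth.Agent.Surf.K418.Nef
import Groth.Agent.Surf.K418.Szp
import Groth.Agent.Surf.K627.Fin
import Groth.Agent.Surf.K455.Canon
import Groth.Agent.Picfga.CurveRelDim

/-!
# S15105 and S15106 from Noether's formula, (STAR), (KER) and the vertical case (K418)

* `Noe`, `Vert`: the shapes of S15089 and S15092.
* `main`: the conclusion of S15105.
* `section_neg`: the conclusion of S15106.
-/

set_option autoImplicit false
universe u
open CategoryTheory CategoryTheory.Limits AlgebraicGeometry Opposite TopologicalSpace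

namespace K418.SzpFin

open Groth.Agent Groth.Agent.Grpsch.PicGrp
open K464.Base K464.Curves K464.Comp K464.DegCurve K464.PtCurve K464.FibCurve K418.NumPos

variable (k : Type u) [Field k] [IsAlgClosed k] (p : ℕ) [Fact p.Prime] [CharP k p]
  {X : Scheme.{u}} [X.Over (Spec (CommRingCat.of k))] [IsProper (X ↘ (Spec (CommRingCat.of k)))]
  [Smooth (X ↘ (Spec (CommRingCat.of k)))] [IsIntegral X] (hdim : topologicalKrullDim X = 2)
  {C : Scheme.{u}} [C.Over (Spec (CommRingCat.of k))] [IsProper (C ↘ (Spec (CommRingCat.of k)))]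
  [Smooth (C ↘ (Spec (CommRingCat.of k)))] [IsIntegral C] (hdimC : topologicalKrullDim C = 1)
  (f : X ⟶ C) (hf : f ≫ (C ↘ Spec (CommRingCat.of k)) = X ↘ Spec (CommRingCat.of k)) [Surjective f]
  [FrobSch.IsCharP X p] [FrobSch.IsCharP C p] [LocallyOfFinitePresentation f]
  (hconn : IsIso (ClSub.unitToPush f)) (hss : Curv2.IsNodalFamily f)
  (q₀ : C) (hq₀ : IsClosed ({q₀} : Set C)) (hsm : Smooth (f.fiberToSpecResidueField q₀))
  (g : ℕ) (hg2 : 2 ≤ g) (hg : Curv2.euler k X (ClSub.quotMod (f.fiberι q₀).ker) = 1 - (g : ℤ))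

include k hdim hdimC hf hconn hss hq₀ hsm hg in
omit [FrobSch.IsCharP X p] [FrobSch.IsCharP C p] [Fact p.Prime] [CharP k p] in
/-- There are singular points. -/
theorem card_pos (hsing : ∃ c : C, IsClosed ({c} : Set C) ∧ ¬ Smooth (f.fiberToSpecResidueField c)) :
    0 < Nat.card ↥((f.smoothLocus : Set X)ᶜ) := by
  obtain ⟨c, -, hc⟩ := hsing
  have hfl := hss.1
  rw [K627.SurfFin.smooth_fiber_iff] at hc
  push Not at hc
  obtain ⟨x, -, hx⟩ := hc
  have hfin : ((f.smoothLocus : Set X)ᶜ).Finite := K627.SurfFin.finite_sing (k := k) (g := g)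
    { pX := inferInstance, sX := inferInstance, iX := inferInstance, dX := hdim, pC := inferInstance,
      sC := inferInstance, iC := inferInstance, dC := hdimC, ovr := hf, sur := inferInstance, conn := hconn,
      nod := hss, fib := ⟨q₀, hq₀, hsm, hg⟩ }
  have := hfin.to_subtype
  have : Nonempty ↥((f.smoothLocus : Set X)ᶜ) := ⟨⟨x, hx⟩⟩
  exact Nat.card_pos

variable {WX : X.Modules} (hWX : ExtPow.IsExtPow 2 (Omega.sheaf (X ↘ (Spec (CommRingCat.of k)))) WX)
  (hW : PicF.IsInvertible WX)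
  {M : X.Modules} (hM : ClSub.IsInverseOf M ((Scheme.Modules.pullback f).obj
    (Omega.sheaf (C ↘ (Spec (CommRingCat.of k))))))
  (hMi : PicF.IsInvertible M)

/-- The kernel of Frobenius on `R¹ f_* O_X` embeds into `f_* ω`. -/
def Ker (WX M : X.Modules) : Prop :=
  ∃ (Q : C.Modules)
    (m : Q ⟶ (Scheme.Modules.pullback (FrobSch.frob C p)).obj ((Coh.Rpush f 1).obj (Coh.structureModule X)))
    (r : (Scheme.Modules.pullback (FrobSch.frob C p)).obj ((Coh.Rpush f 1).obj (Coh.structureModule X)) ⟶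
      (Coh.Rpush f 1).obj (Coh.structureModule X))
    (n : Q ⟶ (Scheme.Modules.pushforward f).obj (CohB1.tensorMod WX M)) (h : m ≫ r = 0),
    Mono m ∧ Mono n ∧ (ShortComplex.mk m r h).Exact

include k p hdim hdimC hf hconn hss hq₀ hsm hg2 hg hWX hM in
theorem main (hsing : ∃ c : C, IsClosed ({c} : Set C) ∧ ¬ Smooth (f.fiberToSpecResidueField c))
    (hker : Ker p f WX M)
    (hstar : ∀ (D : X.IdealSheafData) (hD : IsCurve D) (hDe : BlowUp.IsEffCartierIdeal D),
      f (gp hD) = genericPoint C →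
        ∃ m : ℕ, 0 ≤ dot k X (ic D hDe) (ic D hDe) + m * degOn k X D (mk WX hW * mk M hMi))
    (hvert : ∀ D : X.IdealSheafData, IsIntegral D.subscheme → topologicalKrullDim (D.support : Set X) = 1 →
      (∃ c : C, ∀ x : X, x ∈ D.support → f.base x = c) → ∀ LD : X.Modules, ClSub.IsInverseOf LD (ClSub.idealMod D) →
      0 ≤ FGA.intNum k X 2 ![(CohB1.tensorMod WX M), LD] (Coh.structureModule X) ∧
      (FGA.intNum k X 2 ![(CohB1.tensorMod WX M), LD] (Coh.structureModule X) = 0 →
        Curv2.euler k X (ClSub.quotMod D) = 1 ∧ FGA.intNum k X 2 ![LD, LD] (Coh.structureModule X) = -2))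
    (hnoe : FGA.intNum k X 2 ![(CohB1.tensorMod WX M), (CohB1.tensorMod WX M)] (Coh.structureModule X) =
      12 * (Curv2.euler k C ((Coh.push f).obj (CohB1.tensorMod WX M)) -
        (g : ℤ) * Curv2.euler k C (Coh.structureModule C)) - (Nat.card ↥((f.smoothLocus : Set X)ᶜ) : ℤ)) :
    0 < FGA.intNum k X 2 ![(CohB1.tensorMod WX M), (CohB1.tensorMod WX M)] (Coh.structureModule X) ∧
    (∀ D : X.IdealSheafData, IsIntegral D.subscheme → topologicalKrullDim (D.support : Set X) = 1 →
      0 ≤ Curv2.euler k X (CohB1.tensorMod (ClSub.quotMod D) (CohB1.tensorMod WX M)) - Curv2.euler k X (ClSub.quotMod D)) ∧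
    (∀ D : X.IdealSheafData, IsIntegral D.subscheme → topologicalKrullDim (D.support : Set X) = 1 →
      Curv2.euler k X (CohB1.tensorMod (ClSub.quotMod D) (CohB1.tensorMod WX M)) - Curv2.euler k X (ClSub.quotMod D) = 0 →
        (∃ c : C, ∀ x : X, x ∈ D.support → f.base x = c) ∧ Curv2.euler k X (ClSub.quotMod D) = 1 ∧
          FGA.intNum k X 2 ![ClSub.idealMod D, ClSub.idealMod D] (Coh.structureModule X) = -2) := by
  have hfl := hss.1
  have hnef := Nef.nef k p hdim hdimC f hf hconn hss q₀ hq₀ hsm g hg2 hg hWX hW hM hMi hker hstar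
    (fun D h1 h2 h3 LD h4 => (hvert D h1 h2 h3 LD h4).1)
  have hsq := Nef.sq_nonneg k hdim hW hMi hnef
  have hcard := card_pos k hdim hdimC f hf hconn hss q₀ hq₀ hsm g hg hsing
  rw [hnoe] at hsq
  have hd : 0 < Curv2.euler k C ((Coh.push f).obj (CohB1.tensorMod WX M)) -
      (g : ℤ) * Curv2.euler k C (Coh.structureModule C) := by
    have : (0 : ℤ) < Nat.card ↥((f.smoothLocus : Set X)ᶜ) := by exact_mod_cast hcard
    linarith
  have hV := (Nef.dg_R1 k hdim hdimC f hf hconn hss q₀ hq₀ g hg hWX hM).2.1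
  exact Szp.concl k p hdim hdimC f hf q₀ hq₀ hsm g hg2 hg hWX hW hM hMi hV hnef
    (fun D hD hDe h => by
      obtain ⟨m, hm⟩ := hstar D hD hDe h
      exact ⟨m, hm⟩) hvert hd

include k hdim hdimC hf hWX hM in
omit [LocallyOfFinitePresentation f] [FrobSch.IsCharP X p] [FrobSch.IsCharP C p] [Fact p.Prime] [CharP k p] in
/-- S15106 from S15105. -/
theorem section_neg
    (h : 0 < FGA.intNum k X 2 ![(CohB1.tensorMod WX M), (CohB1.tensorMod WX M)] (Coh.structureModule X) ∧
    (∀ D : X.IdealSheafData, IsIntegral D.subscheme → topologicalKrullDim (D.support : Set X) = 1 →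
      0 ≤ Curv2.euler k X (CohB1.tensorMod (ClSub.quotMod D) (CohB1.tensorMod WX M)) - Curv2.euler k X (ClSub.quotMod D)) ∧
    (∀ D : X.IdealSheafData, IsIntegral D.subscheme → topologicalKrullDim (D.support : Set X) = 1 →
      Curv2.euler k X (CohB1.tensorMod (ClSub.quotMod D) (CohB1.tensorMod WX M)) - Curv2.euler k X (ClSub.quotMod D) = 0 →
        (∃ c : C, ∀ x : X, x ∈ D.support → f.base x = c) ∧ Curv2.euler k X (ClSub.quotMod D) = 1 ∧
          FGA.intNum k X 2 ![ClSub.idealMod D, ClSub.idealMod D] (Coh.structureModule X) = -2))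
    (hMi : PicF.IsInvertible M) (hW : PicF.IsInvertible WX) (E : X.IdealSheafData) (hE : IsIso (E.subschemeι ≫ f)) :
    FGA.intNum k X 2 ![ClSub.idealMod E, ClSub.idealMod E] (Coh.structureModule X) < 0 := by
  have hEc := isCurve_section hdimC f hE
  have hEff := isEff_of_smooth k hdim hEc
  have hI : PicF.IsInvertible (ClSub.idealMod E) := Dix.IdealModCartier.isInvertible_idealMod hEff
  have hΩ := CurvesB.OmegaInv.isInvertible_omega (C ↘ (Spec (CommRingCat.of k))) hdimC
  have h1 := section_sq k hdim hdimC f hf hWX hW hMi hM hΩ hE hEff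
  have hdeg : Curv2.euler k X (CohB1.tensorMod (ClSub.quotMod E) (CohB1.tensorMod WX M)) -
      Curv2.euler k X (ClSub.quotMod E) = degOn k X E (mk WX hW * mk M hMi) := by
    rw [mk_mul_mk hW hMi, degOn_mk]
  rw [intNum_eq_dot k X hdim.le hI hI]
  change dot k X (ic E hEff) (ic E hEff) < 0
  rw [h1]
  have h2 := h.2.1 E hEc.integral hEc.dim
  rw [hdeg] at h2
  rcases h2.lt_or_eq with h3 | h3
  · linarith
  · have h4 := (h.2.2 E hEc.integral hEc.dim (by rw [hdeg, ← h3])).1
    exact absurd h4 (section_not_vertical f hdimC hE)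

end K418.SzpFin
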