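import Mathlib.AlgebraicGeometry.Morphisms.FlatMono
import Groth.Agent.Lefpen.H416.ProjSC
import Groth.Agent.Lefpen.H416.SimplyConn
import Groth.Agent.S3701
import Groth.Agent.S1340
import Groth.Agent.S2805
import Groth.Agent.CurvesB.NodalEtale
import Groth.Agent.Models.H59.ConicEnd
import Groth.Agent.Surf.K464.FibCurve
import Groth.Agent.Models.K380.Bir

/-!
# Finite étale covers of families of curves over a simply connected base (K418)

* `smooth_fiber_iff`: smoothness of a fibre is not changed by an étale cover of the total space.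
* `surjective_of_finite_etale`: a finite étale morphism with nonempty source and connected target is surjective.
* `isIso_of_section`: a finite étale cover with a section and connected source is an isomorphism.
* `exists_section_of_genus_zero`: over a curve of genus zero (algebraically closed field) every nonempty finite étale
  cover has a section.
* `isIso_unitToPush`: `O_C = f_* O_X` for `f` proper, flat, finitely presented with geometrically reduced fibres, `X`
  integral and nonempty, `C` a curve of genus zero over an algebraically closed field.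
-/

set_option autoImplicit false
universe u
open CategoryTheory CategoryTheory.Limits AlgebraicGeometry Opposite TopologicalSpace

namespace K418.EtCov

open Groth.Agent

section Fib

variable {X' X C : Scheme.{u}} (r : X' ⟶ X) (f : X ⟶ C) (c : C)

open CurvesB.NodalEtale

theorem smooth_fiber_iff [Etale r] [Surjective r] [LocallyOfFinitePresentation f] :
    Smooth ((r ≫ f).fiberToSpecResidueField c) ↔ Smooth (f.fiberToSpecResidueField c) := by
  have hs : Surjective (fiberMap f r c) := MorphismProperty.of_isPullback (isPullback_fiberMap f r c).flip ‹_›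
  have hlfp : LocallyOfFinitePresentation (f.fiberToSpecResidueField c) :=
    inferInstanceAs (LocallyOfFinitePresentation (pullback.snd _ _))
  rw [← fiberMap_snd]
  constructor
  · intro h
    rw [← Scheme.Hom.smoothLocus_eq_top_iff, eq_top_iff]
    intro y _
    obtain ⟨x, rfl⟩ := (fiberMap f r c).surjective y
    obtain ⟨V, hV, hsm⟩ := S2805.result (f.fiberToSpecResidueField c)
      (fiberMap f r c ≫ f.fiberToSpecResidueField c) (fiberMap f r c) rfl x
        (Flat.stalkMap _ x) ⟨⊤, trivial, inferInstance⟩
    have h1 : V.ι ⁻¹ᵁ (f.fiberToSpecResidueField c).smoothLocus = ⊤ := by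
      rw [Scheme.Hom.preimage_smoothLocus_eq, Scheme.Hom.smoothLocus_eq_top]
    have h2 : (⟨fiberMap f r c x, hV⟩ : V) ∈ V.ι ⁻¹ᵁ (f.fiberToSpecResidueField c).smoothLocus := by
      rw [h1]; trivial
    exact h2
  · intro h
    infer_instance

end Fib

theorem surjective_of_finite_etale {X' X : Scheme.{u}} (r : X' ⟶ X) [IsFinite r] [Etale r] [Nonempty X']
    [ConnectedSpace X] : Surjective r := by
  have h1 : IsClopen (Set.range r) := ⟨r.isClosedMap.isClosed_range, r.isOpenMap.isOpen_range⟩
  have h2 : Set.range r = Set.univ := h1.eq_univ (Set.range_nonempty _)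
  exact ⟨fun x => by
    have : x ∈ Set.range r := h2 ▸ Set.mem_univ x
    exact this⟩

/-- A finite étale cover with a section and connected source is an isomorphism. -/
theorem isIso_of_section {N C : Scheme.{u}} (a : N ⟶ C) [IsFinite a] [Etale a] [ConnectedSpace N] [Nonempty C]
    (σ : C ⟶ N) (hσ : σ ≫ a = 𝟙 C) : IsIso a := by
  have h1 : Etale (σ ≫ a) := by rw [hσ]; infer_instance
  have h2 : Etale σ := Etale.of_comp σ a
  have h3 : IsClosedImmersion (σ ≫ a) := by rw [hσ]; infer_instance
  have h4 : IsClosedImmersion σ := IsClosedImmersion.of_comp σ a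
  have h5 : Surjective σ := surjective_of_finite_etale σ
  have h6 : Mono σ := inferInstance
  have h8 : IsIso σ := Flat.isIso_of_surjective_of_mono σ
  exact IsIso.of_isIso_fac_left hσ

/-- Over a curve of genus zero over an algebraically closed field every nonempty finite étale cover has a section. -/
theorem exists_section_of_genus_zero (k : Type u) [Field k] [IsAlgClosed k] {C : Scheme.{u}}
    [C.Over (Spec (CommRingCat.of k))] [IsProper (C ↘ (Spec (CommRingCat.of k)))]
    [Smooth (C ↘ (Spec (CommRingCat.of k)))] [IsIntegral C] (hdimC : topologicalKrullDim C = 1)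
    (hC0 : Curv2.genus k C = 0) {N : Scheme.{u}} [Nonempty N] (a : N ⟶ C) [IsFinite a] [Etale a] :
    ∃ σ : C ⟶ N, σ ≫ a = 𝟙 C := by
  have hNC : AlgebraicGeometry.IsNoetherian C := CurvesB.CurveRR.isNoetherian_of_proper k C
  obtain ⟨b, -, hb⟩ := (isClosed_univ (X := C)).exists_closed_singleton Set.univ_nonempty
  obtain ⟨τ, hτc, hτ, -, -⟩ := K464.FibCurve.exists_point k hb
  have hy : IsClosed ({τ (IsLocalRing.closedPoint k)} : Set C) := by
    have h1 := τ.isClosedEmbedding.isClosed_range
    have h2 : Set.range τ = {τ (IsLocalRing.closedPoint k)} := by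
      ext x
      constructor
      · rintro ⟨w, rfl⟩
        rw [Subsingleton.elim w (IsLocalRing.closedPoint k)]; rfl
      · rintro rfl
        exact ⟨_, rfl⟩
    rwa [h2] at h1
  obtain ⟨e, -⟩ := Models.H55.Recog.exists_iso_of_point k C hdimC (VarietyA.CurveFin.finrank_h0_structure k C) hC0
    (τ (IsLocalRing.closedPoint k)) hy (S1535.result k C _)
    (Models.H59.ConicEnd.exists_const_sub_mem (C ↘ (Spec (CommRingCat.of k))) τ hτ (IsLocalRing.closedPoint k))
  have hfin : IsFinite (a ≫ e.hom) := inferInstance
  have het : Etale (a ≫ e.hom) := inferInstance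
  obtain ⟨s⟩ := @Lefpen.H416.SimplyConn.exists_section (CohB1.ProjSpace 1 k) (Lefpen.H416.ProjSC.isSplit k 1)
    (Scheme.Etale.mk (a ≫ e.hom)) hfin ‹Nonempty N›
  obtain ⟨t, ht⟩ : ∃ t : CohB1.ProjSpace 1 k ⟶ N, t ≫ a ≫ e.hom = 𝟙 _ := ⟨s.left, MorphismProperty.Over.w s⟩
  exact ⟨e.hom ≫ t, by
    rw [← cancel_mono e.hom, Category.assoc, Category.assoc, ht, Category.comp_id, Category.id_comp]⟩

/-- `O_C = f_* O_X`. -/
theorem isIso_unitToPush (k : Type u) [Field k] [IsAlgClosed k] {C : Scheme.{u}}
    [C.Over (Spec (CommRingCat.of k))] [IsProper (C ↘ (Spec (CommRingCat.of k)))]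
    [Smooth (C ↘ (Spec (CommRingCat.of k)))] [IsIntegral C] (hdimC : topologicalKrullDim C = 1)
    (hC0 : Curv2.genus k C = 0) {X : Scheme.{u}} [IsIntegral X] (f : X ⟶ C) [IsProper f] [Flat f]
    [LocallyOfFinitePresentation f] (hred : GeometricallyReduced f) :
    IsIso (ClSub.unitToPush f) := by
  obtain ⟨h1, h2⟩ := S3701.result f fun Ω _ _ σ =>
    hred.geometrically_isReduced _ _ _ (IsPullback.of_hasPullback f σ)
  have hint : IsIntegral f.normalization := inferInstance
  obtain ⟨σ, hσ⟩ := exists_section_of_genus_zero k hdimC hC0 f.fromNormalization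
  have h3 := isIso_of_section f.fromNormalization σ hσ
  have h4 := S1340.result f
  refine K380.Bir.isIso_unitToPush f fun U => ?_
  have h5 : f.app U = f.fromNormalization.app U ≫ f.toNormalization.app (f.fromNormalization ⁻¹ᵁ U) ≫
      X.presheaf.map (eqToHom (by rw [← Scheme.Hom.comp_preimage, f.toNormalization_fromNormalization])).op := by
    have h6 := Scheme.Hom.congr_app f.toNormalization_fromNormalization.symm U
    rw [h6, Scheme.Hom.comp_app]
    rfl
  rw [h5]
  have h7 := h4 (f.fromNormalization ⁻¹ᵁ U)
  infer_instance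

end K418.EtCov
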