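import Groth.Agent.Surf.K459.Arak
import Groth.Agent.Surf.K455.Canon
import Groth.Agent.Variety.K432.CurveDeg
import Groth.Agent.Sga3C.DimTop
import Groth.Agent.S15540
import Groth.Agent.Ega2.Normal

/-!
# Exceptional curves on finite étale covers of a fibred surface (K418)

* `dot_self_nonpos`: an integral curve contained in a fibre has nonpositive square.
* `exists_image`: image of a curve under a finite morphism, and the degree formula.
* `euler_le_one`: `χ(O_D) ≤ 1` for an integral curve over an algebraically closed field.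
* `main`: `r : X' ⟶ X` finite étale, `E'` a vertical integral curve on `X'` with `χ(O_{E'}) = 1`, `E'² = -1`: the image
  `E` is a vertical integral curve with `χ(O_E) = 1`, `E² = -1`.
-/

set_option autoImplicit false
universe u
open CategoryTheory CategoryTheory.Limits AlgebraicGeometry Opposite TopologicalSpace

namespace K418.EtExc

open Groth.Agent Groth.Agent.Grpsch.PicGrp
open K464.Base K464.Curves K464.Comp K464.DegCurve K464.PtCurve K464.FibCurve

section Vert

variable (k : Type u) [Field k] [IsAlgClosed k] {X C : Scheme.{u}} [X.Over (Spec (CommRingCat.of k))]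
  [C.Over (Spec (CommRingCat.of k))] [IsProper (X ↘ Spec (CommRingCat.of k))] [IsProper (C ↘ Spec (CommRingCat.of k))]
  [IsIntegral X] [IsIntegral C] [Smooth (X ↘ Spec (CommRingCat.of k))] [Smooth (C ↘ Spec (CommRingCat.of k))]
  (hdim : topologicalKrullDim X = 2) (hdimC : topologicalKrullDim C = 1) (f : X ⟶ C) [IsDominant f]

/-- The pullback of a class has degree zero on a vertical curve. -/
theorem degOn_pull_eq_zero {D : X.IdealSheafData} (hD : IsCurve D) {c : C} (hc : IsClosed ({c} : Set C))
    (hv : ∀ x : X, x ∈ D.support → f x = c) (A : Pic C) : degOn k X D (pull f A) = 0 := by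
  let _ := overC k X D
  have := hD.integral
  have hcl : IsClosedImmersion (C.fromSpecResidueField c) :=
    isClosed_singleton_iff_isClosedImmersion.mp hc
  have hrange : Set.range (D.subschemeι ≫ f) ⊆ Set.range (C.fromSpecResidueField c) := by
    rw [Scheme.range_fromSpecResidueField]
    rintro _ ⟨z, rfl⟩
    refine hv (D.subschemeι z) ?_
    rw [← SetLike.mem_coe, ← D.range_subschemeι]
    exact Set.mem_range_self _
  obtain ⟨g, hg⟩ := Ega1.ReducedSub.exists_factor_of_range_subset (D.subschemeι ≫ f)
    (C.fromSpecResidueField c) hrange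
  rw [degOn_eq_degC, ← pull_comp, ← hg, pull_comp, K456.FibDiv.pic_residue c (pull (C.fromSpecResidueField c) A),
    map_one, degC_one]

include hdim hdimC in
/-- A vertical integral curve has nonpositive square. -/
theorem dot_self_nonpos {D : X.IdealSheafData} (hD : IsCurve D) (hDe : BlowUp.IsEffCartierIdeal D) {c : C}
    (hc : IsClosed ({c} : Set C)) (hv : ∀ x : X, x ∈ D.support → f x = c) :
    dot k X (ic D hDe) (ic D hDe) ≤ 0 := by
  by_contra hcon
  push Not at hcon
  have : AlgebraicGeometry.IsNoetherian X := CurvesB.CurveRR.isNoetherian_of_proper k X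
  have hregC : ∀ c : C, IsRegularLocalRing (C.presheaf.stalk c) := fun c => S1535.result k C c
  have hE := isEff_pt k (C ↘ Spec (CommRingCat.of k)) hdimC hregC hc
  have hFib := isEff_fibre f hdimC hc hE
  have h1 : degOn k X D (ic D hDe)⁻¹ = dot k X (ic D hDe) (ic D hDe) := by
    rw [degOn_inv k hD, ← dot_ic_eq k X hDe]
  have hnef : ∀ E : X.IdealSheafData, IsCurve E → 0 ≤ degOn k X E (ic D hDe)⁻¹ := by
    intro E hE
    by_cases h : E = D
    · subst h
      rw [h1]; exact hcon.le
    · rw [degOn_inv k hE]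
      have := degOn_ic_nonpos k hE hDe (gp_notMem hE hD h)
      linarith
  have hle : (pt hc).comap f ≤ D := by
    rw [le_iff_gp_mem hD, Scheme.IdealSheafData.support_comap]
    change f (gp hD) ∈ (pt hc).support
    rw [mem_support_pt]
    exact hv _ (gp_mem hD)
  obtain ⟨G, hG, hmul⟩ := Divis.ColonIdeal.exists_mul_eq hDe hFib hle
  have h2 := degOn_eff_mul k hdim.le hDe hG (ic D hDe)⁻¹
  have h3 := degOn_nonneg_of_forall k hdim hnef hG
  have h4 : degOn k X (D * G) (ic D hDe)⁻¹ = 0 := by
    rw [hmul, degOn_eq_neg_dot k X hFib, dot_inv_right k X hdim.le, neg_neg, dot_comm, dot_ic_eq, ← pull_ic f hE hFib,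
      degOn_pull_eq_zero k f hD hc hv, neg_zero]
  rw [h4, h1] at h2
  linarith

/-- `χ(O_D) ≤ 1` for an integral curve. -/
theorem euler_le_one {D : X.IdealSheafData} (hD : IsCurve D) : Curv2.euler k X (ClSub.quotMod D) ≤ 1 := by
  letI := overC k X D
  have := isProper_sub k X D
  have := hD.integral
  rw [euler_quotMod_sub, CurvesC.CurveCoh.euler_eq k D.subscheme ((dim_sub X D).trans hD.dim),
    VarietyA.CurveFin.finrank_h0_structure k D.subscheme]
  push_cast
  linarith [Int.natCast_nonneg (Module.finrank k (Coh.HH D.subscheme (Coh.structureModule D.subscheme) 1))]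

end Vert

section Image

variable (k : Type u) [Field k] {X X' : Scheme.{u}} [X.Over (Spec (CommRingCat.of k))]
  [X'.Over (Spec (CommRingCat.of k))] [IsProper (X ↘ Spec (CommRingCat.of k))] (r : X' ⟶ X) [IsFinite r]
  (hr : r ≫ (X ↘ Spec (CommRingCat.of k)) = X' ↘ Spec (CommRingCat.of k))

include hr in
/-- The image of a curve under a finite morphism, and the degree formula. -/
theorem exists_image {E' : X'.IdealSheafData} (hE' : IsCurve E') :
    ∃ E : X.IdealSheafData, IsCurve E ∧ (∀ x : X, x ∈ E.support ↔ ∃ x' : X', x' ∈ E'.support ∧ r x' = x) ∧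
      ∃ m : ℕ, ∀ a : Pic X, degOn k X' E' (pull r a) = m * degOn k X E a := by
  have := hE'.integral
  set g := E'.subschemeι ≫ r with hg
  set E := g.ker with hE
  have hfac : g.toImage ≫ E.subschemeι = g := g.toImage_imageι
  have hfin : IsFinite g.toImage := by
    have : IsFinite (g.toImage ≫ E.subschemeι) := by rw [hfac]; infer_instance
    exact IsFinite.of_comp g.toImage E.subschemeι
  have hsurj : Surjective g.toImage := by
    have h1 : IsDominant g.toImage := inferInstance
    have h2 : IsClosed (Set.range g.toImage) := g.toImage.isClosedMap.isClosed_range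
    exact ⟨fun y => by
      have : y ∈ Set.range g.toImage := by
        rw [← h2.closure_eq, g.toImage.denseRange.closure_range]; trivial
      exact this⟩
  have hint : IsIntegral E.subscheme := Groth.Agent.Ega2.Normal.isIntegral_image g
  have hdimE : topologicalKrullDim E.subscheme = 1 := by
    have h1 := Sga3C.DimTop.topologicalKrullDim_eq_of_isIntegralHom g.toImage
    rw [dim_sub X' E', hE'.dim] at h1
    exact h1.symm
  have hEc : IsCurve E := ⟨hint, (dim_sub X E).symm.trans hdimE⟩
  refine ⟨E, hEc, fun x => ?_, ?_⟩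
  · have h1 : x ∈ E.support ↔ x ∈ Set.range E.subschemeι := by
      rw [E.range_subschemeι]; rfl
    rw [h1]
    constructor
    · rintro ⟨y, rfl⟩
      obtain ⟨z, rfl⟩ := g.toImage.surjective y
      refine ⟨E'.subschemeι z, ?_, ?_⟩
      · rw [← SetLike.mem_coe, ← E'.range_subschemeι]
        exact Set.mem_range_self _
      · exact (congrArg (fun h : E'.subscheme ⟶ X => h z) hfac).symm
    · rintro ⟨x', hx', rfl⟩
      rw [← SetLike.mem_coe, ← E'.range_subschemeι] at hx'
      obtain ⟨z, rfl⟩ := hx'
      exact ⟨g.toImage z, congrArg (fun h : E'.subscheme ⟶ X => h z) hfac⟩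
  · have := isProper_sub k X E
    refine ⟨Module.finrank (E.subscheme.presheaf.stalk (genericPoint E.subscheme))
      (((Scheme.Modules.pushforward g.toImage).obj (Coh.structureModule E'.subscheme)).presheaf.stalk
        (genericPoint E.subscheme)), fun a => ?_⟩
    have h0 : pull E'.subschemeι (pull r a) = pull g.toImage (pull E.subschemeι a) := by
      rw [← pull_comp, ← pull_comp, hfac]
    rw [degOn_eq_degC, degOn_eq_degC, h0]
    obtain ⟨L, hL, hL'⟩ := exists_mk (pull E.subschemeι a)
    rw [hL', pull_mk]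
    have h1 := K432.CurveDeg.dg_pullback_finite (E.subschemeι ≫ (X ↘ Spec (CommRingCat.of k))) hdimE g.toImage L hL
    have h2 : g.toImage ≫ E.subschemeι ≫ (X ↘ Spec (CommRingCat.of k)) =
        E'.subschemeι ≫ (X' ↘ Spec (CommRingCat.of k)) := by
      rw [← Category.assoc, hfac, hg, Category.assoc, hr]
    rw [h2] at h1
    exact h1

end Image

section Main

variable (k : Type u) [Field k] [IsAlgClosed k] {X C : Scheme.{u}} [X.Over (Spec (CommRingCat.of k))]
  [C.Over (Spec (CommRingCat.of k))] [IsProper (X ↘ Spec (CommRingCat.of k))] [IsProper (C ↘ Spec (CommRingCat.of k))]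
  [IsIntegral X] [IsIntegral C] [Smooth (X ↘ Spec (CommRingCat.of k))] [Smooth (C ↘ Spec (CommRingCat.of k))]
  (hdim : topologicalKrullDim X = 2) (hdimC : topologicalKrullDim C = 1) (f : X ⟶ C)
  (hf : f ≫ (C ↘ Spec (CommRingCat.of k)) = X ↘ Spec (CommRingCat.of k)) [IsDominant f]
  {X' : Scheme.{u}} [X'.Over (Spec (CommRingCat.of k))] [IsIntegral X'] (r : X' ⟶ X) [IsFinite r] [Etale r]
  [Surjective r] (hr : r ≫ (X ↘ Spec (CommRingCat.of k)) = X' ↘ Spec (CommRingCat.of k))

include hdim hdimC hr hf in
theorem main (hmin : ∀ E : X.IdealSheafData, IsIntegral E.subscheme → topologicalKrullDim (E.support : Set X) = 1 →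
      (∃ c : C, ∀ x : X, x ∈ E.support → f.base x = c) → Curv2.euler k X (ClSub.quotMod E) = 1 →
      FGA.intNum k X 2 ![ClSub.idealMod E, ClSub.idealMod E] (Coh.structureModule X) ≠ -1)
    (E' : X'.IdealSheafData) (hi : IsIntegral E'.subscheme) (hd' : topologicalKrullDim (E'.support : Set X') = 1)
    (hv : ∃ c : C, ∀ x : X', x ∈ E'.support → (r ≫ f).base x = c)
    (hχ : Curv2.euler k X' (ClSub.quotMod E') = 1) :
    FGA.intNum k X' 2 ![ClSub.idealMod E', ClSub.idealMod E'] (Coh.structureModule X') ≠ -1 := by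
  intro hneg
  have hprop : IsProper (X' ↘ Spec (CommRingCat.of k)) := by rw [← hr]; infer_instance
  have hsm : Smooth (X' ↘ Spec (CommRingCat.of k)) := by rw [← hr]; infer_instance
  have hdim' : topologicalKrullDim X' = 2 :=
    (Sga3C.DimTop.topologicalKrullDim_eq_of_isIntegralHom r).trans hdim
  have h2 : SmoothOfRelativeDimension 2 (X ↘ Spec (CommRingCat.of k)) :=
    Picfga.CurveRelDim.smoothOfRelativeDimension_of_topologicalKrullDim_eq k X _ 2 hdim
  obtain ⟨WX, hWX, hW⟩ := K455.Canon.exists_canonical (X ↘ Spec (CommRingCat.of k)) 2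
  have hWX' : ExtPow.IsExtPow 2 (Omega.sheaf (X' ↘ Spec (CommRingCat.of k))) ((Scheme.Modules.pullback r).obj WX) :=
    S15540.result X (Spec (CommRingCat.of k)) X' (Spec (CommRingCat.of k)) (X ↘ Spec (CommRingCat.of k))
      (X' ↘ Spec (CommRingCat.of k)) r (𝟙 _) (by rw [hr, Category.comp_id]) 2 WX hWX
  have hE' : IsCurve E' := ⟨hi, hd'⟩
  have hEff' := isEff_of_smooth k hdim' hE'
  have hI' : PicF.IsInvertible (ClSub.idealMod E') := Dix.IdealModCartier.isInvertible_idealMod hEff'
  rw [intNum_eq_dot k X' hdim'.le hI' hI'] at hneg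
  have hneg' : dot k X' (ic E' hEff') (ic E' hEff') = -1 := hneg
  obtain ⟨E, hE, hsupp, m, hm⟩ := exists_image k r hr hE'
  have h1 := K459.Arak.adjunction k hdim' hWX' (Fdesc.LocGen.isInvertible_pullback r hW) hEff'
  rw [hneg', hχ, dot_ic_eq, ← pull_mk r hW, hm] at h1
  have hEff := isEff_of_smooth k hdim hE
  have h3 := K459.Arak.adjunction k hdim hWX hW hEff
  rw [dot_ic_eq] at h3
  obtain ⟨c, hc⟩ := hv
  have hvE : ∀ x : X, x ∈ E.support → f x = c := by
    intro x hx
    obtain ⟨x', hx', rfl⟩ := (hsupp x).1 hx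
    have := hc x' hx'
    rw [Scheme.Hom.comp_apply] at this
    exact this
  have hcl : IsClosed ({c} : Set C) := by
    have := isProper k f hf
    have h4 : f '' (E.support : Set X) = {c} := by
      refine subset_antisymm ?_ (Set.singleton_subset_iff.2 ⟨gp hE, gp_mem hE, hvE _ (gp_mem hE)⟩)
      rintro _ ⟨x, hx, rfl⟩
      exact hvE x hx
    rw [← h4]
    exact f.isClosedMap _ E.support.isClosed
  have h5 := dot_self_nonpos k hdim hdimC f hE hEff hcl hvE
  have h6 := euler_le_one k hE
  have hm1 : (m : ℤ) = 1 := by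
    have h7 : (m : ℤ) * (-degOn k X E (mk WX hW)) = 1 := by linarith
    rcases Int.isUnit_iff.1 (IsUnit.of_mul_eq_one _ h7) with h8 | h8
    · exact h8
    · have := Int.natCast_nonneg m
      omega
  rw [hm1, one_mul] at h1
  have hχE : Curv2.euler k X (ClSub.quotMod E) = 1 := by omega
  have hI : PicF.IsInvertible (ClSub.idealMod E) := Dix.IdealModCartier.isInvertible_idealMod hEff
  refine hmin E hE.integral hE.dim ⟨c, hvE⟩ hχE ?_
  rw [intNum_eq_dot k X hdim.le hI hI]
  change dot k X (ic E hEff) (ic E hEff) = -1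
  omega

end Main

end K418.EtExc
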