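import Groth.Agent.Surf.K418.FrobNeg
import Groth.Agent.Surf.K456.FlatCurve
import Groth.Agent.S1535
import Groth.Agent.Models2.CodimStalk
import Groth.Agent.S2156

/-!
# The Frobenius argument for a fibration of a surface over a curve with a smooth closed fibre (K418)

Usable forms of `K418.FrobNeg` for `f : X ⟶ C` flat, surjective, locally of finite presentation with a smooth
fibre, `X`, `C` smooth and proper over a field `k` of characteristic `p`; `F` is the absolute Frobenius.

* `exists_smooth_open`, `flat_frob`, `isCharP`, `crv`, `mono_relFrob`.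
* `exists_mono`: `F^{n*} f_* L ⟶ f_* F^{n*} L` is mono, `L` invertible (locally free).
* `sections_eq_zero`, `dg_neg`: `a` nef, `(a · L) < 0` imply `H⁰(C, F^{n*} f_* L) = 0` and `deg f_* L < 0`.
* `dot_pos`: `a` nef, `(a · f^* A) < 0`, `deg f_* L > 0` imply `(a · L) > 0`.
-/

set_option autoImplicit false
universe u
open CategoryTheory CategoryTheory.Limits AlgebraicGeometry Opposite TopologicalSpace

namespace K418.FrobMain

open Groth.Agent.Grpsch.PicGrp Groth.Agent K464.Base K464.Curves K464.Comp K707.Base K707.Deg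
  Groth.Agent.VarietyA.DegRank

theorem smooth_smoothLocus {X S : Scheme.{u}} (f : X ⟶ S) [LocallyOfFinitePresentation f] :
    Smooth (f.smoothLocus.ι ≫ f) := by
  rw [← Scheme.Hom.smoothLocus_eq_top_iff, ← Scheme.Hom.preimage_smoothLocus_eq]
  simp

theorem mem_smoothLocus_of_fiber {X C : Scheme.{u}} (f : X ⟶ C) [Flat f] [LocallyOfFinitePresentation f]
    (x : X) (hsm : Smooth (f.fiberToSpecResidueField (f x))) : x ∈ f.smoothLocus := by
  refine (S2156.result f x).2 ⟨Flat.stalkMap f x, ?_⟩
  rw [Scheme.Hom.smoothLocus_eq_top]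
  trivial

theorem exists_smooth_open {X C : Scheme.{u}} (f : X ⟶ C) [Flat f] [LocallyOfFinitePresentation f] [Surjective f]
    (q : C) (hsm : Smooth (f.fiberToSpecResidueField q)) :
    ∃ U : X.Opens, (U : Set X).Nonempty ∧ Smooth (U.ι ≫ f) := by
  obtain ⟨x, rfl⟩ := f.surjective q
  exact ⟨f.smoothLocus, ⟨x, mem_smoothLocus_of_fiber f x hsm⟩, smooth_smoothLocus f⟩

variable (k : Type u) [Field k] (p : ℕ)

theorem isCharP [CharP k p] (X : Scheme.{u}) [X.Over (Spec (CommRingCat.of k))] : FrobSch.IsCharP X p :=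
  FrobSch.IsCharP.of_hom (X ↘ Spec (CommRingCat.of k)) p

theorem flat_frob [Fact p.Prime] (C : Scheme.{u}) [C.Over (Spec (CommRingCat.of k))] [Smooth (C ↘ Spec (CommRingCat.of k))]
    [FrobSch.IsCharP C p] : Flat (FrobSch.frob C p) :=
  FrobRed.flat_frob p C fun x => S1535.result k C x


theorem crv {C : Scheme.{u}} [C.Over (Spec (CommRingCat.of k))] [Smooth (C ↘ Spec (CommRingCat.of k))]
    (hdimC : topologicalKrullDim C = 1) : Crv k C := by
  refine ⟨hdimC, fun x => ?_⟩
  have := S1535.result k C x
  exact K456.FlatCurve.isPrincipalIdealRing_of_regular (C.presheaf.stalk x)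
    ((Models2.CodimStalk.ringKrullDim_stalk_le C x).trans hdimC.le)

section

variable [Fact p.Prime] {X C : Scheme.{u}} [X.Over (Spec (CommRingCat.of k))] [C.Over (Spec (CommRingCat.of k))]
  [IsIntegral X] [IsIntegral C] [Smooth (C ↘ Spec (CommRingCat.of k))] (f : X ⟶ C) [Flat f]
  [LocallyOfFinitePresentation f] [Surjective f] (q : C) (hsm : Smooth (f.fiberToSpecResidueField q))

include k hsm in
theorem mono_relFrob [FrobSch.IsCharP C p] : Mono (FormalA.ThickSurj.qmap (FrobSch.relFrob f p)) := by
  obtain ⟨U, hU, hU'⟩ := exists_smooth_open f q hsm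
  have := flat_frob k p C
  exact FrobTw.mono_relFrob p f U hU

include k hsm in
/-- `F^{n*} f_* L ⟶ f_* F^{n*} L` is mono. -/
theorem exists_mono [FrobSch.IsCharP X p] [FrobSch.IsCharP C p] [QuasiCompact f] [QuasiSeparated f] (n : ℕ)
    {L : X.Modules} (hL : FlatMod.IsFinLocFree L) :
    ∃ g : ((Scheme.Modules.pullback (FrobSch.frob C p)).obj)^[n] ((Scheme.Modules.pushforward f).obj L) ⟶
      (Scheme.Modules.pushforward f).obj (((Scheme.Modules.pullback (FrobSch.frob X p)).obj)^[n] L), Mono g := by
  have := flat_frob k p C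
  exact FrobTw.exists_mono_iter p f (mono_relFrob k p f q hsm) n hL

variable [FrobSch.IsCharP X p] [FrobSch.IsCharP C p] [QuasiCompact f] [QuasiSeparated f]
  [IsProper (X ↘ Spec (CommRingCat.of k))] [Smooth (X ↘ Spec (CommRingCat.of k))] (hdim : topologicalKrullDim X = 2)
  [IsProper (C ↘ Spec (CommRingCat.of k))] (hdimC : topologicalKrullDim C = 1)
  {L : X.Modules} (hL : PicF.IsInvertible L)
  {a : Pic X} (ha : ∀ D : X.IdealSheafData, IsCurve D → 0 ≤ degOn k X D a)

include k p hsm hdim ha in
theorem sections_eq_zero (hneg : dot k X a (mk L hL) < 0) (n : ℕ)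
    (s : Coh.structureModule C ⟶ ((Scheme.Modules.pullback (FrobSch.frob C p)).obj)^[n]
        ((Scheme.Modules.pushforward f).obj L)) : s = 0 := by
  have := flat_frob k p C
  exact FrobNeg.sections_eq_zero k hdim p f (mono_relFrob k p f q hsm) hL ha hneg n s

include k p hsm hdim hdimC ha in
theorem dg_neg (hV : FlatMod.IsFinLocFree ((Scheme.Modules.pushforward f).obj L))
    (hr : 0 < rk ((Scheme.Modules.pushforward f).obj L)) (hneg : dot k X a (mk L hL) < 0) :
    dg k ((Scheme.Modules.pushforward f).obj L) < 0 := by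
  have := flat_frob k p C
  exact FrobNeg.dg_neg k hdim p f (mono_relFrob k p f q hsm) (crv k hdimC) hL hV hr ha hneg

include k p hsm hdim hdimC ha in
theorem dot_pos (hV : FlatMod.IsFinLocFree ((Scheme.Modules.pushforward f).obj L))
    (hd : 0 < dg k ((Scheme.Modules.pushforward f).obj L))
    {A : C.Modules} (hA : PicF.IsInvertible A) (hneg : dot k X a (pull f (mk A hA)) < 0) :
    0 < dot k X a (mk L hL) := by
  have := flat_frob k p C
  exact FrobNeg.dot_pos k hdim p f (mono_relFrob k p f q hsm) (crv k hdimC) hL hV hd ha hA hneg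

end

end K418.FrobMain
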