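import Groth.Agent.Surf.K418.FrobTw
import Groth.Agent.VBCurve.K708.FrobPull
import Groth.Agent.Surf.K456.NefSq

/-!
# Sections of Frobenius pullbacks of `f_* L` and nef classes on the surface (K418)

`f : X ⟶ C`, `X` a smooth proper surface, `C` a curve, characteristic `p`, `L` invertible on `X`, `V = f_* L` a bundle.

* `main`: `a` nef and `0 < χ(F^{n*} V ⊗ A)` imply `0 ≤ (a · f^*A) + p^n (a · L)`.
* `sections_eq_zero`: `a` nef and `(a · L) < 0` imply `H⁰(C, F^{n*} V) = 0` for all `n`.
* `dg_neg`: `a` nef and `(a · L) < 0`, `V ≠ 0` imply `deg V < 0`.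
* `dot_pos`: `a` nef, `(a · f^*A) < 0` for some invertible `A` on `C`, `0 < deg V` imply `0 < (a · L)`.
-/

set_option autoImplicit false
universe u
open CategoryTheory CategoryTheory.Limits AlgebraicGeometry Opposite TopologicalSpace

namespace K418.FrobNeg

open Groth.Agent.Grpsch.PicGrp Groth.Agent K464.Base K464.Curves K464.Comp K707.Base K707.Deg K707.TensL
  K708.FrobPull K708.PtTwist Groth.Agent.VarietyA.DegRank Groth.Agent.Fdesc.LocGen K707.Slope K708.SSH0

section

variable (p : ℕ) [Fact p.Prime] {X : Scheme.{u}} [FrobSch.IsCharP X p] [IsIntegral X]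

theorem mk_iter (n : ℕ) : ∀ {L : X.Modules} (hL : PicF.IsInvertible L),
    mk (((Scheme.Modules.pullback (FrobSch.frob X p)).obj)^[n] L) (iter_inv p n hL) = mk L hL ^ p ^ n := by
  induction n with
  | zero =>
    intro L hL
    rw [pow_zero, pow_one]
    rfl
  | succ n ih =>
    intro L hL
    have h1 := ih (inv_pull (FrobSch.frob X p) hL)
    have h2 : mk ((Scheme.Modules.pullback (FrobSch.frob X p)).obj L) (inv_pull (FrobSch.frob X p) hL) =
        mk L hL ^ p := by
      rw [← mk_tensorPow]
      exact (mk_eq_iff _ _).2 (K818.FrobPow.nonempty_pullback_frob_iso (p := p) hL)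
    rw [h2, ← pow_mul, ← pow_succ'] at h1
    exact h1

end

variable (k : Type u) [Field k] {X : Scheme.{u}} [X.Over (Spec (CommRingCat.of k))]
  [IsProper (X ↘ Spec (CommRingCat.of k))] [IsIntegral X] [Smooth (X ↘ Spec (CommRingCat.of k))]
  (hdim : topologicalKrullDim X = 2)

include hdim in
/-- A nef class pairs nonnegatively with an invertible module having a nonzero section. -/
theorem dot_nonneg_of_section {N : X.Modules} (hN : PicF.IsInvertible N) (t : Coh.structureModule X ⟶ N) (ht : t ≠ 0)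
    {a : Pic X} (ha : ∀ D : X.IdealSheafData, IsCurve D → 0 ≤ degOn k X D a) : 0 ≤ dot k X a (mk N hN) := by
  obtain ⟨D, hD, e⟩ := K456.NefSq.exists_divisor' hN t ht
  exact K456.NefSq.dot_nonneg_of_nef k hdim ha one_pos hD (by rw [pow_one, e])

variable {C : Scheme.{u}} [C.Over (Spec (CommRingCat.of k))] [IsProper (C ↘ Spec (CommRingCat.of k))] [IsIntegral C]
  (p : ℕ) [Fact p.Prime] [FrobSch.IsCharP X p] [FrobSch.IsCharP C p] (f : X ⟶ C)
  [Flat (FrobSch.frob C p)] [QuasiCompact f] [QuasiSeparated f]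
  (hR : Mono (FormalA.ThickSurj.qmap (FrobSch.relFrob f p)))

include hdim hR in
theorem dot_nonneg_of_tensor_section {L : X.Modules} (hL : PicF.IsInvertible L) {A : C.Modules}
    (hA : PicF.IsInvertible A) {a : Pic X} (ha : ∀ D : X.IdealSheafData, IsCurve D → 0 ≤ degOn k X D a) (n : ℕ)
    (s : Coh.structureModule C ⟶ CohB1.tensorMod A (((Scheme.Modules.pullback (FrobSch.frob C p)).obj)^[n]
        ((Scheme.Modules.pushforward f).obj L))) (hs : s ≠ 0) :
    0 ≤ dot k X a (pull f (mk A hA)) + p ^ n * dot k X a (mk L hL) := by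
  obtain ⟨t, ht⟩ := FrobTw.exists_section p f hR n (vb_of_inv hL) (vb_of_inv hA) s hs
  have h1 := dot_nonneg_of_section k hdim (isInvertible_tensorMod (inv_pull f hA) (iter_inv p n hL)) t ht ha
  rw [← mk_mul_mk (inv_pull f hA) (iter_inv p n hL), dot_mul_right k X hdim.le, mk_iter,
    dot_pow_right k X hdim.le] at h1
  push_cast at h1
  exact h1

include hdim hR in
/-- **The main inequality.** -/
theorem main (hC : Crv k C) {L : X.Modules} (hL : PicF.IsInvertible L) {A : C.Modules}
    (hA : PicF.IsInvertible A) (hV : FlatMod.IsFinLocFree ((Scheme.Modules.pushforward f).obj L))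
    {a : Pic X} (ha : ∀ D : X.IdealSheafData, IsCurve D → 0 ≤ degOn k X D a) (n : ℕ)
    (h : 0 < (rk ((Scheme.Modules.pushforward f).obj L) : ℤ) * (dg k A + Curv2.euler k C (Coh.structureModule C)) +
      p ^ n * dg k ((Scheme.Modules.pushforward f).obj L)) :
    0 ≤ dot k X a (pull f (mk A hA)) + p ^ n * dot k X a (mk L hL) := by
  have h1 : 0 < Curv2.euler k C (CohB1.tensorMod A (((Scheme.Modules.pullback (FrobSch.frob C p)).obj)^[n]
        ((Scheme.Modules.pushforward f).obj L))) := by
    have hV' := iter_vb p n hV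
    rw [euler_iso k (Ega2.Tens.swap _ _), euler_eq_dg k, dg_tensor k hC.dim (rank_one_iff.mpr hA) (coh_of_vb hV'),
      rk_tensor (rank_one_iff.mpr hA) (coh_of_vb hV'), iter_rk p n hV, iter_dg p hC n hV]
    push_cast
    linarith
  obtain ⟨s, hs⟩ := exists_section hC h1
  exact dot_nonneg_of_tensor_section k hdim p f hR hL hA ha n s hs

include hdim hR in
theorem sections_eq_zero {L : X.Modules} (hL : PicF.IsInvertible L)
    {a : Pic X} (ha : ∀ D : X.IdealSheafData, IsCurve D → 0 ≤ degOn k X D a) (hneg : dot k X a (mk L hL) < 0) (n : ℕ)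
    (s : Coh.structureModule C ⟶ ((Scheme.Modules.pullback (FrobSch.frob C p)).obj)^[n]
        ((Scheme.Modules.pushforward f).obj L)) : s = 0 := by
  by_contra hs
  have hO : PicF.IsInvertible (Coh.structureModule C) := rank_one_iff.mp rank_structureModule
  have h1 : s ≫ (Ega2.Tens.runit _).inv ≫ (Ega2.Tens.swap _ _).hom ≠ 0 := fun h => hs (by
    rw [← cancel_mono ((Ega2.Tens.runit _).inv ≫ (Ega2.Tens.swap _ _).hom), h, zero_comp])
  have h2 := dot_nonneg_of_tensor_section k hdim p f hR hL hO ha n _ h1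
  have h3 : pull f (mk (Coh.structureModule C) hO) = (1 : Pic X) := map_one (pull f)
  rw [h3, dot_one_right, zero_add] at h2
  have h4 : (0 : ℤ) < (p : ℤ) ^ n := by
    have := (Fact.out : p.Prime).pos
    positivity
  nlinarith

theorem exists_pow_gt (m c : ℤ) (hm : 0 < m) : ∃ n : ℕ, c < (p : ℤ) ^ n * m := by
  obtain ⟨n, hn⟩ := pow_unbounded_of_one_lt c.toNat (Fact.out : p.Prime).one_lt
  refine ⟨n, ?_⟩
  have h1 : c ≤ c.toNat := Int.self_le_toNat c
  have h2 : (c.toNat : ℤ) < (p : ℤ) ^ n := by exact_mod_cast hn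
  nlinarith

include hdim hR in
theorem dg_neg (hC : Crv k C) {L : X.Modules} (hL : PicF.IsInvertible L)
    (hV : FlatMod.IsFinLocFree ((Scheme.Modules.pushforward f).obj L))
    (hr : 0 < rk ((Scheme.Modules.pushforward f).obj L))
    {a : Pic X} (ha : ∀ D : X.IdealSheafData, IsCurve D → 0 ≤ degOn k X D a) (hneg : dot k X a (mk L hL) < 0) :
    dg k ((Scheme.Modules.pushforward f).obj L) < 0 := by
  by_contra hd
  push Not at hd
  obtain ⟨A, hA, hdA⟩ := exists_inv_ge hC (1 - Curv2.euler k C (Coh.structureModule C))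
  obtain ⟨n, hn⟩ := exists_pow_gt p (- dot k X a (mk L hL)) (dot k X a (pull f (mk A hA))) (by linarith)
  have hr' : (0 : ℤ) < rk ((Scheme.Modules.pushforward f).obj L) := by exact_mod_cast hr
  have hp : (0 : ℤ) < (p : ℤ) ^ n := by
    have := (Fact.out : p.Prime).pos
    positivity
  have h1 := main k hdim p f hR hC hL hA hV ha n (by nlinarith [mul_nonneg hp.le hd])
  linarith

include hdim hR in
theorem dot_pos (hC : Crv k C) {L : X.Modules} (hL : PicF.IsInvertible L)
    (hV : FlatMod.IsFinLocFree ((Scheme.Modules.pushforward f).obj L))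
    (hd : 0 < dg k ((Scheme.Modules.pushforward f).obj L))
    {a : Pic X} (ha : ∀ D : X.IdealSheafData, IsCurve D → 0 ≤ degOn k X D a)
    {A : C.Modules} (hA : PicF.IsInvertible A) (hneg : dot k X a (pull f (mk A hA)) < 0) :
    0 < dot k X a (mk L hL) := by
  obtain ⟨n, hn⟩ := exists_pow_gt p (dg k ((Scheme.Modules.pushforward f).obj L))
    (-((rk ((Scheme.Modules.pushforward f).obj L) : ℤ) * (dg k A + Curv2.euler k C (Coh.structureModule C)))) hd
  have hp : (0 : ℤ) < (p : ℤ) ^ n := by
    have := (Fact.out : p.Prime).pos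
    positivity
  have h1 := main k hdim p f hR hC hL hA hV ha n (by linarith)
  nlinarith

end K418.FrobNeg
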