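import Groth.Prelude.Def_Frob
import Groth.Agent.FormalA.ThickSurj
import Groth.Agent.VarietyB.ExactLoc
import Groth.Agent.CycB.StalkExact
import Groth.Agent.Etcore.SmoothRed
import Groth.Agent.Localalg.Kunz
import Groth.Agent.Variety.K430.Frob

/-!
# Flatness of Frobenius on a regular scheme; reducedness of Frobenius twists; `N ⟶ R_* R^* N` is mono (K418)

* `flat_frob`: the absolute Frobenius of a regular scheme is flat.
* `isReduced_of_flat_of_open`: `q : Z ⟶ X` flat, `X` integral, `q⁻¹ U` reduced, `U ≠ ∅` ⟹ `Z` reduced.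
* `mono_qmap_of_surjective`: `O_Y ⟶ R_* O_Z` is mono for `R` surjective and `Y` reduced.
* `mono_unit`: `N ⟶ R_* R^* N` is mono for `N` locally free and `O_Y ⟶ R_* O_Z` mono.
-/

set_option autoImplicit false
universe u
open CategoryTheory CategoryTheory.Limits AlgebraicGeometry Opposite TopologicalSpace

namespace K418.FrobRed

open Groth.Agent Groth.Agent.Ega2.Tens

theorem flat_frob (p : ℕ) [Fact p.Prime] (C : Scheme.{u}) [FrobSch.IsCharP C p]
    (h : ∀ x : C, IsRegularLocalRing (C.presheaf.stalk x)) : Flat (FrobSch.frob C p) := by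
  refine Flat.of_stalkMap _ fun x => ?_
  have h1 := h x
  have h2 : CharP (C.presheaf.stalk x) p := by
    rw [CharP.charP_iff_prime_eq_zero Fact.out]
    have := congrArg (C.presheaf.germ ⊤ x trivial).hom (FrobSch.IsCharP.natCast_eq_zero (X := C) (p := p))
    rwa [map_natCast, map_zero] at this
  have h3 := Localalg.Kunz.frobenius_flat_of_isRegularLocalRing p (C.presheaf.stalk x)
  have h4 : ((FrobSch.frob C p).stalkMap x).hom = frobenius (C.presheaf.stalk x) p := by
    ext a
    exact K430.Frob.frob_stalkMap C p x a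
  rw [h4]
  exact h3

theorem isReduced_of_flat_of_open {Z X : Scheme.{u}} (q : Z ⟶ X) [Flat q] [IsIntegral X] (U : X.Opens)
    (hU : (U : Set X).Nonempty) (h : IsReduced (q ⁻¹ᵁ U).toScheme) : IsReduced Z := by
  have key : ∀ z : Z, ∃ W : Z.Opens, IsAffineOpen W ∧ z ∈ W ∧ _root_.IsReduced Γ(Z, W) := by
    intro z
    obtain ⟨V, hV, hzV, -⟩ := exists_isAffineOpen_mem_and_subset (x := q z) (U := ⊤) trivial
    obtain ⟨W, hW, hzW, hWV'⟩ := exists_isAffineOpen_mem_and_subset (x := z) (U := q ⁻¹ᵁ V) hzV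
    have hWV : W ≤ q ⁻¹ᵁ V := hWV'
    refine ⟨W, hW, hzW, ?_⟩
    have hfl : (q.appLE V W hWV).hom.Flat := q.flat_appLE hV hW hWV
    have hVne : (V : Set X).Nonempty := ⟨_, hzV⟩
    obtain ⟨y, hyV, hyU⟩ := nonempty_preirreducible_inter V.isOpen U.isOpen hVne hU
    obtain ⟨a, ha, hya⟩ := hV.exists_basicOpen_le (⟨y, hyU⟩ : U) hyV
    have ha0 : a ≠ 0 := by
      rintro rfl
      rw [Scheme.basicOpen_zero] at hya
      exact hya
    have : Nonempty V := ⟨⟨_, hzV⟩⟩
    algebraize [(q.appLE V W hWV).hom]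
    have hnz : ∀ s : Γ(Z, W), (q.appLE V W hWV) a * s = 0 → s = 0 := by
      have h0 : IsSMulRegular Γ(X, V) a := fun x y hxy => mul_left_cancel₀ ha0 hxy
      have h1 : IsSMulRegular Γ(Z, W) (algebraMap Γ(X, V) Γ(Z, W) a) := IsSMulRegular.of_flat h0
      intro s hs
      refine h1 ?_
      change (q.appLE V W hWV) a * s = (q.appLE V W hWV) a * 0
      rw [hs, mul_zero]
    refine ⟨fun s hs => ?_⟩
    set b : Γ(Z, W) := (q.appLE V W hWV) a with hb
    have hbU : Z.basicOpen b ≤ q ⁻¹ᵁ U := by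
      have h2 : Z.basicOpen b ≤ q ⁻¹ᵁ (X.basicOpen a) := by
        rw [hb, Scheme.basicOpen_appLE]
        exact inf_le_right
      exact h2.trans (Scheme.Hom.preimage_mono q ha)
    have hred : _root_.IsReduced Γ(Z, Z.basicOpen b) := by
      have h5 : (q ⁻¹ᵁ U).ι ''ᵁ ((q ⁻¹ᵁ U).ι ⁻¹ᵁ (Z.basicOpen b)) = Z.basicOpen b := by
        rw [Scheme.Hom.image_preimage_eq_opensRange_inf, Scheme.Opens.opensRange_ι]
        exact inf_eq_right.2 hbU
      have h6 : _root_.IsReduced Γ((q ⁻¹ᵁ U).toScheme, (q ⁻¹ᵁ U).ι ⁻¹ᵁ (Z.basicOpen b)) := inferInstance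
      rw [← h5]
      exact h6
    have h3 : Z.presheaf.map (homOfLE (Z.basicOpen_le b)).op s = 0 := by
      have := hs.map (Z.presheaf.map (homOfLE (Z.basicOpen_le b)).op).hom
      exact this.eq_zero
    have h4 := hW.isLocalization_basicOpen b
    obtain ⟨⟨_, n, rfl⟩, hn⟩ := (IsLocalization.map_eq_zero_iff (Submonoid.powers b) Γ(Z, Z.basicOpen b) s).1 h3
    change b ^ n * s = 0 at hn
    clear h3
    induction n with
    | zero => simpa using hn
    | succ n ih =>
      rw [pow_succ', mul_assoc] at hn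
      exact ih (hnz _ hn)
  have hst : ∀ z : Z, _root_.IsReduced (Z.presheaf.stalk z) := by
    intro z
    obtain ⟨W, hW, hz, hr⟩ := key z
    let _ : Algebra Γ(Z, W) (Z.presheaf.stalk z) := TopCat.Presheaf.algebra_section_stalk Z.presheaf ⟨z, hz⟩
    have := hW.isLocalization_stalk ⟨z, hz⟩
    exact isReduced_localizationPreserves (hW.primeIdealOf ⟨z, hz⟩).asIdeal.primeCompl (Z.presheaf.stalk z) hr
  exact isReduced_of_isReduced_stalk Z

theorem mono_qmap_of_surjective {Z Y : Scheme.{u}} (R : Z ⟶ Y) [Surjective R] [IsReduced Y] :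
    Mono (FormalA.ThickSurj.qmap R) := by
  refine VarietyB.ExactLoc.mono_of_stalk _ fun x => ?_
  rw [injective_iff_map_eq_zero]
  intro t ht
  obtain ⟨U, hx, s, rfl⟩ := TopCat.Presheaf.exists_germ_eq
    (Coh.structureModule Y).presheaf t
  rw [CycB.StalkExact.stalkLin_germ] at ht
  obtain ⟨V, h, hxV, h0⟩ := VarietyB.ExactLoc.exists_res_eq_zero _ hx _ ht
  have h1 : R.app V (Y.presheaf.map (homOfLE h).op (show Γ(Y, U) from s)) = 0 := by
    have := congr($(R.naturality (homOfLE h).op) (show Γ(Y, U) from s))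
    exact this.trans h0
  have h2 : Y.presheaf.map (homOfLE h).op (show Γ(Y, U) from s) = 0 := by
    have h3 : Y.basicOpen (Y.presheaf.map (homOfLE h).op (show Γ(Y, U) from s)) = ⊥ := by
      have h4 : R ⁻¹ᵁ (Y.basicOpen (Y.presheaf.map (homOfLE h).op (show Γ(Y, U) from s))) = ⊥ := by
        rw [Scheme.preimage_basicOpen, h1, Scheme.basicOpen_zero]
      ext y
      simp only [Opens.coe_bot, Set.mem_empty_iff_false, iff_false]
      intro hy
      obtain ⟨z, rfl⟩ := R.surjective y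
      have : z ∈ R ⁻¹ᵁ (Y.basicOpen (Y.presheaf.map (homOfLE h).op (show Γ(Y, U) from s))) := hy
      rw [h4] at this
      exact this
    exact (basicOpen_eq_bot_iff _).1 h3
  have h3 := VarietyB.ExactLoc.germ_res (Coh.structureModule Y) h hxV s
  rw [← h3]
  have h4 : VarietyB.TensLoc.res (Coh.structureModule Y) h s = 0 := h2
  rw [h4, map_zero]

theorem mono_unit {Z Y : Scheme.{u}} (R : Z ⟶ Y) [Mono (FormalA.ThickSurj.qmap R)] {N : Y.Modules}
    (hN : FlatMod.IsFinLocFree N) :
    Mono ((Scheme.Modules.pullbackPushforwardAdjunction R).unit.app N) := by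
  have hN' := VarietyB.TensCoh.HasBases.of_isFinLocFree hN
  have h1 := Sga67.TensorOps.mono_tmap hN (FormalA.ThickSurj.qmap R)
  have h2 := FormalA.ThickSurj.tmap_qmap R N hN'
  have h3 : (Scheme.Modules.pullbackPushforwardAdjunction R).unit.app N =
      (runit N).inv ≫ Sga67.ExtSheaf.tmap N (FormalA.ThickSurj.qmap R) ≫
        (VarietyB.ProjForm.projIsoUnit R hN').hom := by
    rw [h2, Iso.inv_hom_id_assoc]
  rw [h3]
  infer_instance

end K418.FrobRed
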