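import Groth.Agent.Surf.K418.FrobRed
import Groth.Agent.Coherent.K791.FBC0
import Groth.Agent.PerfC.FlatExact
import Groth.Agent.Dcoh.FinLocFree
import Groth.Agent.PerfB.FlatPull
import Groth.Agent.Variety.K430.Frob
import Groth.Agent.Ega2.QCohLocal

/-!
# `F_C^* f_* L ⟶ f_* F_X^* L` is mono, with iterates and twists (K418)

`f : X ⟶ C` in characteristic `p`, `F_C` flat, `O_{X¹} ⟶ R_* O_X` mono for the relative Frobenius `R : X ⟶ X¹`:
* `exists_mono`, `exists_mono_iter`, `exists_mono_tensor`, `exists_section`.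
* `mono_relFrob`: the condition holds if `f` is flat, smooth over a nonempty open subset, `X` integral, `C` reduced.
-/

set_option autoImplicit false
universe u
open CategoryTheory CategoryTheory.Limits AlgebraicGeometry Opposite TopologicalSpace

namespace K418.FrobTw

open Groth.Agent Groth.Agent.Ega2.Tens

variable (p : ℕ) [Fact p.Prime] {X C : Scheme.{u}} [FrobSch.IsCharP X p] [FrobSch.IsCharP C p] (f : X ⟶ C)

theorem exists_mono [Flat (FrobSch.frob C p)] [QuasiCompact f] [QuasiSeparated f]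
    (hR : Mono (FormalA.ThickSurj.qmap (FrobSch.relFrob f p))) {L : X.Modules} (hL : FlatMod.IsFinLocFree L)
    (hLq : Coh.IsQCoh L) :
    ∃ g : (Scheme.Modules.pullback (FrobSch.frob C p)).obj ((Scheme.Modules.pushforward f).obj L) ⟶
      (Scheme.Modules.pushforward f).obj ((Scheme.Modules.pullback (FrobSch.frob X p)).obj L), Mono g := by
  have H : IsPullback (pullback.fst f (FrobSch.frob C p)) (pullback.snd f (FrobSch.frob C p)) f (FrobSch.frob C p) :=
    IsPullback.of_hasPullback _ _
  have h1 := Coherent.K791.FBC0.isIso_bc0_flat H hLq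
  set g' := pullback.fst f (FrobSch.frob C p)
  set f' := pullback.snd f (FrobSch.frob C p)
  have hN : FlatMod.IsFinLocFree ((Scheme.Modules.pullback g').obj L) := PerfB.FlatPull.isFinLocFree_pullback g' hL
  have h2 := FrobRed.mono_unit (FrobSch.relFrob f p) hN
  let e : (Scheme.Modules.pushforward f').obj ((Scheme.Modules.pushforward (FrobSch.relFrob f p)).obj
      ((Scheme.Modules.pullback (FrobSch.relFrob f p)).obj ((Scheme.Modules.pullback g').obj L))) ≅
      (Scheme.Modules.pushforward f).obj ((Scheme.Modules.pullback (FrobSch.frob X p)).obj L) :=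
    (Scheme.Modules.pushforwardComp (FrobSch.relFrob f p) f').app _ ≪≫
      (Scheme.Modules.pushforwardCongr (FrobSch.relFrob_snd f p)).app _ ≪≫
      (Scheme.Modules.pushforward f).mapIso ((Scheme.Modules.pullbackComp (FrobSch.relFrob f p) g').app L ≪≫
        (Scheme.Modules.pullbackCongr (FrobSch.relFrob_fst f p)).app L)
  obtain ⟨b, hb⟩ : ∃ b : (Scheme.Modules.pullback (FrobSch.frob C p)).obj ((Scheme.Modules.pushforward f).obj L) ⟶
      (Scheme.Modules.pushforward f').obj ((Scheme.Modules.pullback g').obj L), IsIso b := ⟨_, h1⟩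
  exact ⟨b ≫ (Scheme.Modules.pushforward f').map
    ((Scheme.Modules.pullbackPushforwardAdjunction (FrobSch.relFrob f p)).unit.app
      ((Scheme.Modules.pullback g').obj L)) ≫ e.hom, inferInstance⟩

/-- Iterated pullback along a flat endomorphism preserves monomorphisms. -/
theorem exists_mono_pull {Y : Scheme.{u}} (F : Y ⟶ Y) [Flat F] (n : ℕ) :
    ∀ {M N : Y.Modules} (φ : M ⟶ N), Mono φ →
      ∃ g : ((Scheme.Modules.pullback F).obj)^[n] M ⟶ ((Scheme.Modules.pullback F).obj)^[n] N, Mono g := by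
  induction n with
  | zero => exact fun φ h => ⟨φ, h⟩
  | succ n ih => exact fun φ h => ih _ (PerfC.FlatExact.mono_pullback_map F φ)

theorem exists_mono_iter [Flat (FrobSch.frob C p)] [QuasiCompact f] [QuasiSeparated f]
    (hR : Mono (FormalA.ThickSurj.qmap (FrobSch.relFrob f p))) (n : ℕ) :
    ∀ {L : X.Modules}, FlatMod.IsFinLocFree L →
    ∃ g : ((Scheme.Modules.pullback (FrobSch.frob C p)).obj)^[n] ((Scheme.Modules.pushforward f).obj L) ⟶
      (Scheme.Modules.pushforward f).obj (((Scheme.Modules.pullback (FrobSch.frob X p)).obj)^[n] L), Mono g := by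
  induction n with
  | zero =>
    intro L hL
    exact ⟨𝟙 ((Scheme.Modules.pushforward f).obj L), instMonoId _⟩
  | succ n ih =>
    intro L hL
    obtain ⟨g1, h1⟩ := exists_mono p f hR hL (Ega2.QCohLocal.isQCoh_of_isFinLocFree hL)
    obtain ⟨g2, h2⟩ := exists_mono_pull (FrobSch.frob C p) n g1 h1
    obtain ⟨g3, h3⟩ := ih (PerfB.FlatPull.isFinLocFree_pullback (FrobSch.frob X p) hL)
    exact ⟨g2 ≫ g3, mono_comp g2 g3⟩

theorem exists_mono_tensor [Flat (FrobSch.frob C p)] [QuasiCompact f] [QuasiSeparated f]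
    (hR : Mono (FormalA.ThickSurj.qmap (FrobSch.relFrob f p))) (n : ℕ)
    {L : X.Modules} (hL : FlatMod.IsFinLocFree L) {A : C.Modules} (hA : FlatMod.IsFinLocFree A) :
    ∃ g : CohB1.tensorMod A (((Scheme.Modules.pullback (FrobSch.frob C p)).obj)^[n]
        ((Scheme.Modules.pushforward f).obj L)) ⟶
      (Scheme.Modules.pushforward f).obj (CohB1.tensorMod ((Scheme.Modules.pullback f).obj A)
        (((Scheme.Modules.pullback (FrobSch.frob X p)).obj)^[n] L)), Mono g := by
  obtain ⟨g, hg⟩ := exists_mono_iter p f hR n hL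
  have h1 := Sga67.TensorOps.mono_tmap hA g
  exact ⟨Sga67.ExtSheaf.tmap A g ≫ (VarietyB.ProjForm.projIso f
    (VarietyB.TensCoh.HasBases.of_isFinLocFree hA) _).hom, mono_comp _ _⟩

omit [FrobSch.IsCharP X p] [FrobSch.IsCharP C p] in
theorem exists_unit_hom {N : X.Modules} (u : Coh.structureModule C ⟶ (Scheme.Modules.pushforward f).obj N)
    (hu : u ≠ 0) : ∃ t : Coh.structureModule X ⟶ N, t ≠ 0 := by
  have h2 : Dcoh.FinLocFree.unitEquiv ((Scheme.Modules.pushforward f).obj N) u ≠ 0 :=
    fun h => hu ((AddEquiv.map_eq_zero_iff (Dcoh.FinLocFree.unitEquiv ((Scheme.Modules.pushforward f).obj N))).1 h)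
  refine ⟨(Dcoh.FinLocFree.unitEquiv N).symm (show Γ(N, ⊤) from
    Dcoh.FinLocFree.unitEquiv ((Scheme.Modules.pushforward f).obj N) u), fun h => h2 ?_⟩
  exact (AddEquiv.map_eq_zero_iff (Dcoh.FinLocFree.unitEquiv N).symm).1 h

/-- A nonzero section of `A ⊗ F^{n*} f_* L` gives one of `f^* A ⊗ F^{n*} L`. -/
theorem exists_section [Flat (FrobSch.frob C p)] [QuasiCompact f] [QuasiSeparated f]
    (hR : Mono (FormalA.ThickSurj.qmap (FrobSch.relFrob f p))) (n : ℕ)
    {L : X.Modules} (hL : FlatMod.IsFinLocFree L) {A : C.Modules} (hA : FlatMod.IsFinLocFree A)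
    (s : Coh.structureModule C ⟶ CohB1.tensorMod A (((Scheme.Modules.pullback (FrobSch.frob C p)).obj)^[n]
        ((Scheme.Modules.pushforward f).obj L))) (hs : s ≠ 0) :
    ∃ t : Coh.structureModule X ⟶ CohB1.tensorMod ((Scheme.Modules.pullback f).obj A)
        (((Scheme.Modules.pullback (FrobSch.frob X p)).obj)^[n] L), t ≠ 0 := by
  obtain ⟨g, hg⟩ := exists_mono_tensor p f hR n hL hA
  have h1 : s ≫ g ≠ 0 := by
    intro h
    apply hs
    rw [← cancel_mono g, h, zero_comp]
  exact exists_unit_hom f (s ≫ g) h1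

omit [FrobSch.IsCharP X p] in
/-- The Frobenius twist of `f` is reduced. -/
theorem isReduced_twist [IsIntegral X] [IsReduced C] [Flat (FrobSch.frob C p)] (U : X.Opens)
    (hU : (U : Set X).Nonempty) [Smooth (U.ι ≫ f)] : IsReduced (pullback f (FrobSch.frob C p)) := by
  set g' := pullback.fst f (FrobSch.frob C p)
  set f' := pullback.snd f (FrobSch.frob C p)
  have hflat : Flat g' := inferInstance
  refine FrobRed.isReduced_of_flat_of_open g' U hU ?_
  have H : IsPullback (g' ∣_ U) ((g' ⁻¹ᵁ U).ι ≫ f') (U.ι ≫ f) (FrobSch.frob C p) :=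
    ((isPullback_morphismRestrict g' U).flip.paste_horiz (IsPullback.of_hasPullback f (FrobSch.frob C p)).flip).flip
  have h1 : Smooth ((g' ⁻¹ᵁ U).ι ≫ f') := MorphismProperty.of_isPullback H ‹_›
  exact Etcore.SmoothRed.isReduced_of_smooth ((g' ⁻¹ᵁ U).ι ≫ f')

omit [FrobSch.IsCharP X p] in
theorem mono_relFrob [IsIntegral X] [IsReduced C] [Flat (FrobSch.frob C p)] (U : X.Opens)
    (hU : (U : Set X).Nonempty) [Smooth (U.ι ≫ f)] : Mono (FormalA.ThickSurj.qmap (FrobSch.relFrob f p)) := by
  have h1 := isReduced_twist p f U hU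
  have h2 : Surjective (FrobSch.relFrob f p) := by
    have h3 := K430.Frob.relFrob_isUnivHomeo p f
    have h4 := ((FlatA.UnivHomeo.isUnivHomeo_iff _).1 h3).2.2
    exact h4
  exact FrobRed.mono_qmap_of_surjective _

end K418.FrobTw
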