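import Groth.Agent.Surf.K418.FrobMain
import Groth.Agent.Surf.K418.NumPos
import Groth.Agent.Surf.K456.RelCanB
import Groth.Agent.Surf.K456.AmpleEx
import Groth.Agent.VBCurve.K705.Setup

/-!
# Horizontal nefness of the relative canonical class in characteristic `p` (K418)

* `exists_iter_exact`: iterated flat pullbacks of an exact sequence `0 ⟶ Q ⟶ A ⟶ B`.
* `h0_le`: `h⁰(A) ≤ h⁰(B)` for `A ⟶ B` injective on global sections.
* `h0_iter_le`: if `0 ⟶ Q ⟶ F^* W ⟶ W` is exact, `Q ⊂ V` and `H⁰(C, F^{j*} V) = 0` for all `j`, then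
  `h⁰(F^{j*} W) ≤ h⁰(W)`.
* `dg_nonpos`: then `deg W ≤ 0` if `W` is locally free.
* `nonneg_of_star`, `nef`, `sq_nonneg`: nefness of `ω_{X/C}` and `(ω·ω) ≥ 0` from (STAR), (KER) and the vertical case.
-/

set_option autoImplicit false
universe u
open CategoryTheory CategoryTheory.Limits AlgebraicGeometry Opposite TopologicalSpace

namespace K418.Nef

open Groth.Agent.Grpsch.PicGrp Groth.Agent K464.Base K464.Curves K464.Comp K464.DegCurve K464.PtCurve K464.FibCurve
  K707.Base K707.Deg K707.TensL K708.FrobPull K708.PtTwist Groth.Agent.VarietyA.DegRank K707.Slope K708.SSH0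

section Iter

theorem exists_iter_exact {Y : Scheme.{u}} (F : Y ⟶ Y) [Flat F] (n : ℕ) :
    ∀ {Q A B : Y.Modules} (m : Q ⟶ A) (r : A ⟶ B) (h : m ≫ r = 0), Mono m → (ShortComplex.mk m r h).Exact →
      ∃ (m' : ((Scheme.Modules.pullback F).obj)^[n] Q ⟶ ((Scheme.Modules.pullback F).obj)^[n] A)
        (r' : ((Scheme.Modules.pullback F).obj)^[n] A ⟶ ((Scheme.Modules.pullback F).obj)^[n] B)
        (h' : m' ≫ r' = 0), Mono m' ∧ (ShortComplex.mk m' r' h').Exact := by
  induction n with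
  | zero => exact fun m r h h1 h2 => ⟨m, r, h, h1, h2⟩
  | succ n ih =>
    intro Q A B m r h h1 h2
    have h3 := PerfC.FlatExact.preservesFiniteLimits_pullback F
    exact ih ((Scheme.Modules.pullback F).map m) ((Scheme.Modules.pullback F).map r)
      (by rw [← Functor.map_comp, h, Functor.map_zero]) (PerfC.FlatExact.mono_pullback_map F m)
      (h2.map (Scheme.Modules.pullback F))

variable {k : Type u} [Field k] {C : Scheme.{u}} [C.Over (Spec (CommRingCat.of k))] [IsIntegral C]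
  [IsProper (C ↘ (Spec (CommRingCat.of k)))]

/-- `h⁰(A) ≤ h⁰(B)` for `A ⟶ B` injective on global sections. -/
theorem h0_le (D : Crv k C) {A B : C.Modules} (φ : A ⟶ B) (hA : Coh.IsCoh A) (hB : Coh.IsCoh B)
    (h : ∀ s : Coh.structureModule C ⟶ A, s ≫ φ = 0 → s = 0) :
    Module.finrank k (Coh.HH C A 0) ≤ Module.finrank k (Coh.HH C B 0) := by
  have h1 : Subsingleton (Coh.HH C (kernel φ) 0) := by
    refine (K708.HomH0.forall_unit_hom_eq_zero_iff _).mp fun s => ?_
    have h2 := h (s ≫ kernel.ι φ) (by rw [Category.assoc, kernel.condition, comp_zero])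
    rw [← cancel_mono (kernel.ι φ), h2, zero_comp]
  have hS := K707.Semi.cokernel_shortExact (kernel.ι φ)
  have h2 := S0002.result k C A hA 0
  have h3 : Mono (cokernel.desc (kernel.ι φ) φ (kernel.condition φ)) :=
    (ShortComplex.exact_kernel φ).mono_cokernelDesc
  have h4 := K705.Setup.h0_le_of_mono (k := k) (cokernel.desc (kernel.ι φ) φ (kernel.condition φ)) hB
  refine le_trans ?_ h4
  have h5 := VarietyA.EulerAdd.finrank_eq k _ hS 0
  have hK := coh_kernel D φ hA hB
  have hQ := coh_cokernel (kernel.ι φ) hK hA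
  have h6 := S0002.result k C _ hQ 0
  rw [← VarietyA.EulerAdd.finrank_eq₀ k _ hS] at h5
  change Module.finrank k (Coh.HH C A 0) = Module.finrank k (Coh.HH C (kernel φ) 0) + _ at h5
  rw [h5, Module.finrank_zero_of_subsingleton, zero_add]
  exact Submodule.finrank_le _

variable (p : ℕ) [Fact p.Prime] [FrobSch.IsCharP C p] [Flat (FrobSch.frob C p)] (D : Crv k C)
  {W V Q : C.Modules} (hW : FlatMod.IsFinLocFree W)
  (m : Q ⟶ (Scheme.Modules.pullback (FrobSch.frob C p)).obj W)
  (r : (Scheme.Modules.pullback (FrobSch.frob C p)).obj W ⟶ W) (n : Q ⟶ V) (h : m ≫ r = 0)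
  (hm : Mono m) (hn : Mono n) (hex : (ShortComplex.mk m r h).Exact)
  (hV : ∀ (j : ℕ) (s : Coh.structureModule C ⟶ ((Scheme.Modules.pullback (FrobSch.frob C p)).obj)^[j] V), s = 0)

include D hW hm hn hex hV in
theorem h0_iter_le (j : ℕ) :
    Module.finrank k (Coh.HH C (((Scheme.Modules.pullback (FrobSch.frob C p)).obj)^[j] W) 0) ≤
      Module.finrank k (Coh.HH C W 0) := by
  induction j with
  | zero => exact le_rfl
  | succ j ih =>
    refine le_trans ?_ ih
    obtain ⟨m', r', h', hm', hex'⟩ := exists_iter_exact (FrobSch.frob C p) j m r h hm hex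
    obtain ⟨n', hn'⟩ := FrobTw.exists_mono_pull (FrobSch.frob C p) j n hn
    refine h0_le D r' (coh_of_vb (iter_vb p j (vb_pull _ hW))) (coh_of_vb (iter_vb p j hW)) fun s hs => ?_
    have hmS : Mono (ShortComplex.mk m' r' h').f := hm'
    have h1 : hex'.lift s hs ≫ m' = s := hex'.lift_f s hs
    have h2 : hex'.lift s hs ≫ n' = 0 := hV j _
    have h3 : hex'.lift s hs = 0 := by rw [← cancel_mono n', h2, zero_comp]
    exact h1.symm.trans ((congrArg (· ≫ m') h3).trans zero_comp)

include D hW hm hn hex hV in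
theorem dg_nonpos : dg k W ≤ 0 := by
  by_contra hcon
  push Not at hcon
  obtain ⟨j, hj⟩ := FrobNeg.exists_pow_gt p (dg k W)
    ((Module.finrank k (Coh.HH C W 0) : ℤ) - rk W * Curv2.euler k C (Coh.structureModule C)) hcon
  have h1 := h0_iter_le p D hW m r n h hm hn hex hV j
  have h2 := K705.Setup.euler_eq D (((Scheme.Modules.pullback (FrobSch.frob C p)).obj)^[j] W)
  rw [euler_eq_dg k, iter_dg p D j hW, iter_rk p j hW] at h2
  have h3 : (0 : ℤ) ≤ Module.finrank k (Coh.HH C (((Scheme.Modules.pullback (FrobSch.frob C p)).obj)^[j] W) 1) := by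
    positivity
  have h4 : (Module.finrank k (Coh.HH C (((Scheme.Modules.pullback (FrobSch.frob C p)).obj)^[j] W) 0) : ℤ) ≤
      Module.finrank k (Coh.HH C W 0) := by exact_mod_cast h1
  linarith

end Iter

section Main

variable (k : Type u) [Field k] [IsAlgClosed k] (p : ℕ) [Fact p.Prime] [CharP k p] {X C : Scheme.{u}}
  [X.Over (Spec (CommRingCat.of k))] [C.Over (Spec (CommRingCat.of k))] [IsProper (X ↘ Spec (CommRingCat.of k))]
  [IsProper (C ↘ Spec (CommRingCat.of k))] [IsIntegral X] [IsIntegral C] [Smooth (X ↘ Spec (CommRingCat.of k))]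
  [Smooth (C ↘ Spec (CommRingCat.of k))] [FrobSch.IsCharP X p] [FrobSch.IsCharP C p]
  (hdim : topologicalKrullDim X = 2) (hdimC : topologicalKrullDim C = 1) (f : X ⟶ C)
  (hf : f ≫ (C ↘ Spec (CommRingCat.of k)) = X ↘ Spec (CommRingCat.of k)) [Surjective f]
  (hconn : IsIso (ClSub.unitToPush f)) (hss : Curv2.IsNodalFamily f)
  (q₀ : C) (hq₀ : IsClosed ({q₀} : Set C)) (hsm : Smooth (f.fiberToSpecResidueField q₀))
  (g : ℕ) (hg2 : 2 ≤ g) (hg : Curv2.euler k X (ClSub.quotMod (f.fiberι q₀).ker) = 1 - (g : ℤ))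
  {WX : X.Modules} (hWX : ExtPow.IsExtPow 2 (Omega.sheaf (X ↘ Spec (CommRingCat.of k))) WX)
  (hW : PicF.IsInvertible WX) {M : X.Modules}
  (hM : ClSub.IsInverseOf M ((Scheme.Modules.pullback f).obj (Omega.sheaf (C ↘ Spec (CommRingCat.of k)))))
  (hMi : PicF.IsInvertible M)

include hdim hdimC hf hconn hss hq₀ hg hWX hM in
omit [CharP k p] [FrobSch.IsCharP X p] [FrobSch.IsCharP C p] [Fact p.Prime] in
theorem dg_R1 : FlatMod.IsFinLocFree ((Coh.Rpush f 1).obj (Coh.structureModule X)) ∧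
    FlatMod.IsFinLocFreeOfRank g ((Scheme.Modules.pushforward f).obj (CohB1.tensorMod WX M)) ∧
    dg k ((Coh.Rpush f 1).obj (Coh.structureModule X)) =
      - dg k ((Scheme.Modules.pushforward f).obj (CohB1.tensorMod WX M)) := by
  have D : Crv k C := Crv.of_smooth hdimC
  have hregC : ∀ x : C, IsRegularLocalRing (C.presheaf.stalk x) :=
    K456.FibDiv.isRegular_of_smooth (C ↘ (Spec (CommRingCat.of k)))
  have hp : IsProper f := K464.FibCurve.isProper k f hf
  have hcn : AlgebraicGeometry.IsNoetherian C := K707.Deg.isNoetherian k (X := C)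
  have hgc : GeometricallyConnected f := (S2431.result f (K456.RelCan.isIso_app f hconn)).2
  have h0 := (S1596.result f hss).1
  have h1 := K456.RelCan.deg_push k hdim hdimC f hf hconn hWX q₀ hq₀ g hg hM hss
  have h2 := K456.LerayTw.euler_structure k hdim hdimC f hf hconn
  have h3 := K456.LerayTw.rk_R k hdim hdimC f hf hconn hregC D q₀ hq₀ g hg
  have h4 := K456.RelCan.isFinLocFreeOfRank_push k hdim hdimC f hf hconn hWX q₀ hq₀ g hg hM
  refine ⟨h0, h4, ?_⟩
  have h5 := euler_eq_dg k ((Scheme.Modules.pushforward f).obj (CohB1.tensorMod WX M))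
  have h6 := euler_eq_dg k ((Coh.Rpush f 1).obj (Coh.structureModule X))
  rw [rk_of_rank h4] at h5
  rw [h3] at h6
  have hq := CurvesC.CurveCoh.euler_eq k C hdimC (Coh.structureModule C)
  have hq1 : Module.finrank k (Coh.HH C (Coh.structureModule C) 1) = Curv2.genus k C := rfl
  rw [VarietyA.CurveFin.finrank_h0_structure k C, hq1] at hq
  have h7 : Curv2.euler k C ((Coh.push f).obj (CohB1.tensorMod WX M)) =
    Curv2.euler k C ((Scheme.Modules.pushforward f).obj (CohB1.tensorMod WX M)) := rfl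
  rw [h7, h5, h2, h6, hq] at h1
  push_cast at h1
  linarith

include hdim hdimC hf hconn hss hq₀ hsm hg2 hg hWX hM in
/-- **Horizontal nefness**: `(w · D) ≥ 0` if `D² + m (w · D) ≥ 0` for some `m ≥ 0`. -/
theorem nonneg_of_star
    (hker : ∃ (Q : C.Modules)
      (m : Q ⟶ (Scheme.Modules.pullback (FrobSch.frob C p)).obj ((Coh.Rpush f 1).obj (Coh.structureModule X)))
      (r : (Scheme.Modules.pullback (FrobSch.frob C p)).obj ((Coh.Rpush f 1).obj (Coh.structureModule X)) ⟶
        (Coh.Rpush f 1).obj (Coh.structureModule X))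
      (n : Q ⟶ (Scheme.Modules.pushforward f).obj (CohB1.tensorMod WX M)) (h : m ≫ r = 0),
      Mono m ∧ Mono n ∧ (ShortComplex.mk m r h).Exact)
    {D : X.IdealSheafData} (hD : IsCurve D) (hDe : BlowUp.IsEffCartierIdeal D)
    (hstar : ∃ m : ℕ, 0 ≤ dot k X (ic D hDe) (ic D hDe) + m * degOn k X D (mk WX hW * mk M hMi)) :
    0 ≤ degOn k X D (mk WX hW * mk M hMi) := by
  by_contra hcon
  push Not at hcon
  obtain ⟨m₀, hm₀⟩ := hstar
  have hsq : 0 ≤ dot k X (ic D hDe) (ic D hDe) := by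
    have : (m₀ : ℤ) * degOn k X D (mk WX hW * mk M hMi) ≤ 0 :=
      mul_nonpos_of_nonneg_of_nonpos (Int.natCast_nonneg m₀) hcon.le
    linarith
  have hnef : ∀ E : X.IdealSheafData, IsCurve E → 0 ≤ degOn k X E (ic D hDe)⁻¹ := by
    intro E hE
    rw [degOn_inv k hE]
    by_cases h : E = D
    · subst h
      rw [dot_ic_eq k X hDe] at hsq
      exact hsq
    · have := degOn_ic_nonpos k hE hDe (gp_notMem hE hD h)
      linarith
  have hneg : dot k X (ic D hDe)⁻¹ (mk (CohB1.tensorMod WX M) (Fdesc.LocGen.isInvertible_tensorMod hW hMi)) < 0 := by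
    rw [dot_inv_left k X hdim.le, dot_ic_eq, neg_neg]
    exact hcon
  have hp : IsProper f := K464.FibCurve.isProper k f hf
  have hflat := hss.1
  have hfp := hss.2.1
  obtain ⟨h0, h1, h2⟩ := dg_R1 k hdim hdimC f hf hconn hss q₀ hq₀ g hg hWX hM
  have h3 := FrobMain.dg_neg k p f q₀ hsm hdim hdimC (Fdesc.LocGen.isInvertible_tensorMod hW hMi) hnef
    (Ega2.QCohLocal.isFinLocFree_of_rank h1) (by rw [rk_of_rank h1]; omega) hneg
  obtain ⟨Q, m, r, n, h, hm, hn, hex⟩ := hker
  have hfl := FrobMain.flat_frob k p C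
  have h4 := dg_nonpos (k := k) p (FrobMain.crv k hdimC) h0 m r n h hm hn hex fun j s =>
    FrobMain.sections_eq_zero k p f q₀ hsm hdim (Fdesc.LocGen.isInvertible_tensorMod hW hMi) hnef hneg j s
  linarith

include hdim hdimC hf hconn hss hq₀ hsm hg2 hg hWX hM in
/-- **Nefness of `ω_{X/C}`** from (STAR), (KER) and the vertical case (S15092). -/
theorem nef
    (hker : ∃ (Q : C.Modules)
      (m : Q ⟶ (Scheme.Modules.pullback (FrobSch.frob C p)).obj ((Coh.Rpush f 1).obj (Coh.structureModule X)))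
      (r : (Scheme.Modules.pullback (FrobSch.frob C p)).obj ((Coh.Rpush f 1).obj (Coh.structureModule X)) ⟶
        (Coh.Rpush f 1).obj (Coh.structureModule X))
      (n : Q ⟶ (Scheme.Modules.pushforward f).obj (CohB1.tensorMod WX M)) (h : m ≫ r = 0),
      Mono m ∧ Mono n ∧ (ShortComplex.mk m r h).Exact)
    (hstar : ∀ (D : X.IdealSheafData) (hD : IsCurve D) (hDe : BlowUp.IsEffCartierIdeal D),
      f (gp hD) = genericPoint C →
        ∃ m : ℕ, 0 ≤ dot k X (ic D hDe) (ic D hDe) + m * degOn k X D (mk WX hW * mk M hMi))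
    (hvert : ∀ D : X.IdealSheafData, IsIntegral D.subscheme → topologicalKrullDim (D.support : Set X) = 1 →
      (∃ c : C, ∀ x : X, x ∈ D.support → f.base x = c) → ∀ LD : X.Modules, ClSub.IsInverseOf LD (ClSub.idealMod D) →
      0 ≤ FGA.intNum k X 2 ![(CohB1.tensorMod WX M), LD] (Coh.structureModule X))
    (D : X.IdealSheafData) (hD : IsCurve D) : 0 ≤ degOn k X D (mk WX hW * mk M hMi) := by
  have hd2 : topologicalKrullDim X ≤ (2 : ℕ) := hdim.le
  have hDe := isEff_of_smooth k hdim hD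
  rcases NumPos.vertical_or_surj k hdimC f hf hD with ⟨c, -, hc⟩ | ⟨h1, -⟩
  · obtain ⟨N, hN, ⟨e⟩⟩ := Grpsch.PicGrp.exists_inverse (Dix.IdealModCartier.isInvertible_idealMod hDe)
    have hinv : ClSub.IsInverseOf N (ClSub.idealMod D) := ⟨Ega2.Tens.swap _ _ ≪≫ e⟩
    have hNic : mk N hN = (ic D hDe)⁻¹ := mk_eq_ic_inv hinv hN hDe
    have h2 := hvert D hD.integral hD.dim ⟨c, hc⟩ N hinv
    rw [intNum_eq_dot k X hd2 (Fdesc.LocGen.isInvertible_tensorMod hW hMi) hN, ← mk_mul_mk hW hMi, hNic, dot_inv_right k X hd2,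
      dot_comm, dot_ic_eq, neg_neg] at h2
    exact h2
  · exact nonneg_of_star k p hdim hdimC f hf hconn hss q₀ hq₀ hsm g hg2 hg hWX hW hM hMi hker hD hDe
      (hstar D hD hDe h1)

include hdim in
omit [CharP k p] [FrobSch.IsCharP X p] [FrobSch.IsCharP C p] [Fact p.Prime] in
/-- The square of a nef class is nonnegative: the conclusion of S15091. -/
theorem sq_nonneg (hnef : ∀ D : X.IdealSheafData, IsCurve D → 0 ≤ degOn k X D (mk WX hW * mk M hMi)) :
    0 ≤ FGA.intNum k X 2 ![(CohB1.tensorMod WX M), (CohB1.tensorMod WX M)] (Coh.structureModule X) := by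
  have hd2 : topologicalKrullDim X ≤ (2 : ℕ) := hdim.le
  obtain ⟨H, hH⟩ := K456.AmpleEx.exists_ample k X hdim
  rw [intNum_eq_dot k X hd2 (Fdesc.LocGen.isInvertible_tensorMod hW hMi) (Fdesc.LocGen.isInvertible_tensorMod hW hMi), ← mk_mul_mk hW hMi]
  exact K456.NefSq.nef_sq k hdim hH hnef

end Main

end K418.Nef
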